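import Cfsg.Agent.Lib.ToddCox.U62T.Data0
set_option autoImplicit false
set_option maxRecDepth 100000
namespace Cfsg.Agent.Lib.ToddCox.U62T
def eT_0_2 (j : ℕ) : ℕ := bif Nat.blt j 1 then E_0 else E_1
def eT_2_4 (j : ℕ) : ℕ := bif Nat.blt j 3 then E_2 else E_3
def eT_0_4 (j : ℕ) : ℕ := bif Nat.blt j 2 then (eT_0_2 j) else (eT_2_4 j)
def eT_4_6 (j : ℕ) : ℕ := bif Nat.blt j 5 then E_4 else E_5
def eT_7_9 (j : ℕ) : ℕ := bif Nat.blt j 8 then E_7 else E_8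
def eT_6_9 (j : ℕ) : ℕ := bif Nat.blt j 7 then E_6 else (eT_7_9 j)
def eT_4_9 (j : ℕ) : ℕ := bif Nat.blt j 6 then (eT_4_6 j) else (eT_6_9 j)
def eT_0_9 (j : ℕ) : ℕ := bif Nat.blt j 4 then (eT_0_4 j) else (eT_4_9 j)
def eT_9_11 (j : ℕ) : ℕ := bif Nat.blt j 10 then E_9 else E_10
def eT_12_14 (j : ℕ) : ℕ := bif Nat.blt j 13 then E_12 else E_13
def eT_11_14 (j : ℕ) : ℕ := bif Nat.blt j 12 then E_11 else (eT_12_14 j)
def eT_9_14 (j : ℕ) : ℕ := bif Nat.blt j 11 then (eT_9_11 j) else (eT_11_14 j)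
def eT_14_16 (j : ℕ) : ℕ := bif Nat.blt j 15 then E_14 else E_15
def eT_17_19 (j : ℕ) : ℕ := bif Nat.blt j 18 then E_17 else E_18
def eT_16_19 (j : ℕ) : ℕ := bif Nat.blt j 17 then E_16 else (eT_17_19 j)
def eT_14_19 (j : ℕ) : ℕ := bif Nat.blt j 16 then (eT_14_16 j) else (eT_16_19 j)
def eT_9_19 (j : ℕ) : ℕ := bif Nat.blt j 14 then (eT_9_14 j) else (eT_14_19 j)
def eT_0_19 (j : ℕ) : ℕ := bif Nat.blt j 9 then (eT_0_9 j) else (eT_9_19 j)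
def eT_19_21 (j : ℕ) : ℕ := bif Nat.blt j 20 then E_19 else E_20
def eT_21_23 (j : ℕ) : ℕ := bif Nat.blt j 22 then E_21 else E_22
def eT_19_23 (j : ℕ) : ℕ := bif Nat.blt j 21 then (eT_19_21 j) else (eT_21_23 j)
def eT_23_25 (j : ℕ) : ℕ := bif Nat.blt j 24 then E_23 else E_24
def eT_26_28 (j : ℕ) : ℕ := bif Nat.blt j 27 then E_26 else E_27
def eT_25_28 (j : ℕ) : ℕ := bif Nat.blt j 26 then E_25 else (eT_26_28 j)
def eT_23_28 (j : ℕ) : ℕ := bif Nat.blt j 25 then (eT_23_25 j) else (eT_25_28 j)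
def eT_19_28 (j : ℕ) : ℕ := bif Nat.blt j 23 then (eT_19_23 j) else (eT_23_28 j)
def eT_28_30 (j : ℕ) : ℕ := bif Nat.blt j 29 then E_28 else E_29
def eT_31_33 (j : ℕ) : ℕ := bif Nat.blt j 32 then E_31 else E_32
def eT_30_33 (j : ℕ) : ℕ := bif Nat.blt j 31 then E_30 else (eT_31_33 j)
def eT_28_33 (j : ℕ) : ℕ := bif Nat.blt j 30 then (eT_28_30 j) else (eT_30_33 j)
def eT_33_35 (j : ℕ) : ℕ := bif Nat.blt j 34 then E_33 else E_34
def eT_36_38 (j : ℕ) : ℕ := bif Nat.blt j 37 then E_36 else E_37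
def eT_35_38 (j : ℕ) : ℕ := bif Nat.blt j 36 then E_35 else (eT_36_38 j)
def eT_33_38 (j : ℕ) : ℕ := bif Nat.blt j 35 then (eT_33_35 j) else (eT_35_38 j)
def eT_28_38 (j : ℕ) : ℕ := bif Nat.blt j 33 then (eT_28_33 j) else (eT_33_38 j)
def eT_19_38 (j : ℕ) : ℕ := bif Nat.blt j 28 then (eT_19_28 j) else (eT_28_38 j)
def eT_0_38 (j : ℕ) : ℕ := bif Nat.blt j 19 then (eT_0_19 j) else (eT_19_38 j)
def eT_38_40 (j : ℕ) : ℕ := bif Nat.blt j 39 then E_38 else E_39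
def eT_40_42 (j : ℕ) : ℕ := bif Nat.blt j 41 then E_40 else E_41
def eT_38_42 (j : ℕ) : ℕ := bif Nat.blt j 40 then (eT_38_40 j) else (eT_40_42 j)
def eT_42_44 (j : ℕ) : ℕ := bif Nat.blt j 43 then E_42 else E_43
def eT_45_47 (j : ℕ) : ℕ := bif Nat.blt j 46 then E_45 else E_46
def eT_44_47 (j : ℕ) : ℕ := bif Nat.blt j 45 then E_44 else (eT_45_47 j)
def eT_42_47 (j : ℕ) : ℕ := bif Nat.blt j 44 then (eT_42_44 j) else (eT_44_47 j)
def eT_38_47 (j : ℕ) : ℕ := bif Nat.blt j 42 then (eT_38_42 j) else (eT_42_47 j)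
def eT_47_49 (j : ℕ) : ℕ := bif Nat.blt j 48 then E_47 else E_48
def eT_50_52 (j : ℕ) : ℕ := bif Nat.blt j 51 then E_50 else E_51
def eT_49_52 (j : ℕ) : ℕ := bif Nat.blt j 50 then E_49 else (eT_50_52 j)
def eT_47_52 (j : ℕ) : ℕ := bif Nat.blt j 49 then (eT_47_49 j) else (eT_49_52 j)
def eT_52_54 (j : ℕ) : ℕ := bif Nat.blt j 53 then E_52 else E_53
def eT_55_57 (j : ℕ) : ℕ := bif Nat.blt j 56 then E_55 else E_56
def eT_54_57 (j : ℕ) : ℕ := bif Nat.blt j 55 then E_54 else (eT_55_57 j)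
def eT_52_57 (j : ℕ) : ℕ := bif Nat.blt j 54 then (eT_52_54 j) else (eT_54_57 j)
def eT_47_57 (j : ℕ) : ℕ := bif Nat.blt j 52 then (eT_47_52 j) else (eT_52_57 j)
def eT_38_57 (j : ℕ) : ℕ := bif Nat.blt j 47 then (eT_38_47 j) else (eT_47_57 j)
def eT_57_59 (j : ℕ) : ℕ := bif Nat.blt j 58 then E_57 else E_58
def eT_60_62 (j : ℕ) : ℕ := bif Nat.blt j 61 then E_60 else E_61
def eT_59_62 (j : ℕ) : ℕ := bif Nat.blt j 60 then E_59 else (eT_60_62 j)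
def eT_57_62 (j : ℕ) : ℕ := bif Nat.blt j 59 then (eT_57_59 j) else (eT_59_62 j)
def eT_62_64 (j : ℕ) : ℕ := bif Nat.blt j 63 then E_62 else E_63
def eT_65_67 (j : ℕ) : ℕ := bif Nat.blt j 66 then E_65 else E_66
def eT_64_67 (j : ℕ) : ℕ := bif Nat.blt j 65 then E_64 else (eT_65_67 j)
def eT_62_67 (j : ℕ) : ℕ := bif Nat.blt j 64 then (eT_62_64 j) else (eT_64_67 j)
def eT_57_67 (j : ℕ) : ℕ := bif Nat.blt j 62 then (eT_57_62 j) else (eT_62_67 j)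
def eT_67_69 (j : ℕ) : ℕ := bif Nat.blt j 68 then E_67 else E_68
def eT_70_72 (j : ℕ) : ℕ := bif Nat.blt j 71 then E_70 else E_71
def eT_69_72 (j : ℕ) : ℕ := bif Nat.blt j 70 then E_69 else (eT_70_72 j)
def eT_67_72 (j : ℕ) : ℕ := bif Nat.blt j 69 then (eT_67_69 j) else (eT_69_72 j)
def eT_72_74 (j : ℕ) : ℕ := bif Nat.blt j 73 then E_72 else E_73
def eT_75_77 (j : ℕ) : ℕ := bif Nat.blt j 76 then E_75 else E_76
def eT_74_77 (j : ℕ) : ℕ := bif Nat.blt j 75 then E_74 else (eT_75_77 j)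
def eT_72_77 (j : ℕ) : ℕ := bif Nat.blt j 74 then (eT_72_74 j) else (eT_74_77 j)
def eT_67_77 (j : ℕ) : ℕ := bif Nat.blt j 72 then (eT_67_72 j) else (eT_72_77 j)
def eT_57_77 (j : ℕ) : ℕ := bif Nat.blt j 67 then (eT_57_67 j) else (eT_67_77 j)
def eT_38_77 (j : ℕ) : ℕ := bif Nat.blt j 57 then (eT_38_57 j) else (eT_57_77 j)
def eT_0_77 (j : ℕ) : ℕ := bif Nat.blt j 38 then (eT_0_38 j) else (eT_38_77 j)
def eT_77_79 (j : ℕ) : ℕ := bif Nat.blt j 78 then E_77 else E_78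
def eT_79_81 (j : ℕ) : ℕ := bif Nat.blt j 80 then E_79 else E_80
def eT_77_81 (j : ℕ) : ℕ := bif Nat.blt j 79 then (eT_77_79 j) else (eT_79_81 j)
def eT_81_83 (j : ℕ) : ℕ := bif Nat.blt j 82 then E_81 else E_82
def eT_84_86 (j : ℕ) : ℕ := bif Nat.blt j 85 then E_84 else E_85
def eT_83_86 (j : ℕ) : ℕ := bif Nat.blt j 84 then E_83 else (eT_84_86 j)
def eT_81_86 (j : ℕ) : ℕ := bif Nat.blt j 83 then (eT_81_83 j) else (eT_83_86 j)
def eT_77_86 (j : ℕ) : ℕ := bif Nat.blt j 81 then (eT_77_81 j) else (eT_81_86 j)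
def eT_86_88 (j : ℕ) : ℕ := bif Nat.blt j 87 then E_86 else E_87
def eT_89_91 (j : ℕ) : ℕ := bif Nat.blt j 90 then E_89 else E_90
def eT_88_91 (j : ℕ) : ℕ := bif Nat.blt j 89 then E_88 else (eT_89_91 j)
def eT_86_91 (j : ℕ) : ℕ := bif Nat.blt j 88 then (eT_86_88 j) else (eT_88_91 j)
def eT_91_93 (j : ℕ) : ℕ := bif Nat.blt j 92 then E_91 else E_92
def eT_94_96 (j : ℕ) : ℕ := bif Nat.blt j 95 then E_94 else E_95
def eT_93_96 (j : ℕ) : ℕ := bif Nat.blt j 94 then E_93 else (eT_94_96 j)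
def eT_91_96 (j : ℕ) : ℕ := bif Nat.blt j 93 then (eT_91_93 j) else (eT_93_96 j)
def eT_86_96 (j : ℕ) : ℕ := bif Nat.blt j 91 then (eT_86_91 j) else (eT_91_96 j)
def eT_77_96 (j : ℕ) : ℕ := bif Nat.blt j 86 then (eT_77_86 j) else (eT_86_96 j)
def eT_96_98 (j : ℕ) : ℕ := bif Nat.blt j 97 then E_96 else E_97
def eT_99_101 (j : ℕ) : ℕ := bif Nat.blt j 100 then E_99 else E_100
def eT_98_101 (j : ℕ) : ℕ := bif Nat.blt j 99 then E_98 else (eT_99_101 j)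
def eT_96_101 (j : ℕ) : ℕ := bif Nat.blt j 98 then (eT_96_98 j) else (eT_98_101 j)
def eT_101_103 (j : ℕ) : ℕ := bif Nat.blt j 102 then E_101 else E_102
def eT_104_106 (j : ℕ) : ℕ := bif Nat.blt j 105 then E_104 else E_105
def eT_103_106 (j : ℕ) : ℕ := bif Nat.blt j 104 then E_103 else (eT_104_106 j)
def eT_101_106 (j : ℕ) : ℕ := bif Nat.blt j 103 then (eT_101_103 j) else (eT_103_106 j)
def eT_96_106 (j : ℕ) : ℕ := bif Nat.blt j 101 then (eT_96_101 j) else (eT_101_106 j)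
def eT_106_108 (j : ℕ) : ℕ := bif Nat.blt j 107 then E_106 else E_107
def eT_109_111 (j : ℕ) : ℕ := bif Nat.blt j 110 then E_109 else E_110
def eT_108_111 (j : ℕ) : ℕ := bif Nat.blt j 109 then E_108 else (eT_109_111 j)
def eT_106_111 (j : ℕ) : ℕ := bif Nat.blt j 108 then (eT_106_108 j) else (eT_108_111 j)
def eT_111_113 (j : ℕ) : ℕ := bif Nat.blt j 112 then E_111 else E_112
def eT_114_116 (j : ℕ) : ℕ := bif Nat.blt j 115 then E_114 else E_115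
def eT_113_116 (j : ℕ) : ℕ := bif Nat.blt j 114 then E_113 else (eT_114_116 j)
def eT_111_116 (j : ℕ) : ℕ := bif Nat.blt j 113 then (eT_111_113 j) else (eT_113_116 j)
def eT_106_116 (j : ℕ) : ℕ := bif Nat.blt j 111 then (eT_106_111 j) else (eT_111_116 j)
def eT_96_116 (j : ℕ) : ℕ := bif Nat.blt j 106 then (eT_96_106 j) else (eT_106_116 j)
def eT_77_116 (j : ℕ) : ℕ := bif Nat.blt j 96 then (eT_77_96 j) else (eT_96_116 j)
def eT_116_118 (j : ℕ) : ℕ := bif Nat.blt j 117 then E_116 else E_117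
def eT_118_120 (j : ℕ) : ℕ := bif Nat.blt j 119 then E_118 else E_119
def eT_116_120 (j : ℕ) : ℕ := bif Nat.blt j 118 then (eT_116_118 j) else (eT_118_120 j)
def eT_120_122 (j : ℕ) : ℕ := bif Nat.blt j 121 then E_120 else E_121
def eT_123_125 (j : ℕ) : ℕ := bif Nat.blt j 124 then E_123 else E_124
def eT_122_125 (j : ℕ) : ℕ := bif Nat.blt j 123 then E_122 else (eT_123_125 j)
def eT_120_125 (j : ℕ) : ℕ := bif Nat.blt j 122 then (eT_120_122 j) else (eT_122_125 j)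
def eT_116_125 (j : ℕ) : ℕ := bif Nat.blt j 120 then (eT_116_120 j) else (eT_120_125 j)
def eT_125_127 (j : ℕ) : ℕ := bif Nat.blt j 126 then E_125 else E_126
def eT_128_130 (j : ℕ) : ℕ := bif Nat.blt j 129 then E_128 else E_129
def eT_127_130 (j : ℕ) : ℕ := bif Nat.blt j 128 then E_127 else (eT_128_130 j)
def eT_125_130 (j : ℕ) : ℕ := bif Nat.blt j 127 then (eT_125_127 j) else (eT_127_130 j)
def eT_130_132 (j : ℕ) : ℕ := bif Nat.blt j 131 then E_130 else E_131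
def eT_133_135 (j : ℕ) : ℕ := bif Nat.blt j 134 then E_133 else E_134
def eT_132_135 (j : ℕ) : ℕ := bif Nat.blt j 133 then E_132 else (eT_133_135 j)
def eT_130_135 (j : ℕ) : ℕ := bif Nat.blt j 132 then (eT_130_132 j) else (eT_132_135 j)
def eT_125_135 (j : ℕ) : ℕ := bif Nat.blt j 130 then (eT_125_130 j) else (eT_130_135 j)
def eT_116_135 (j : ℕ) : ℕ := bif Nat.blt j 125 then (eT_116_125 j) else (eT_125_135 j)
def eT_135_137 (j : ℕ) : ℕ := bif Nat.blt j 136 then E_135 else E_136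
def eT_138_140 (j : ℕ) : ℕ := bif Nat.blt j 139 then E_138 else E_139
def eT_137_140 (j : ℕ) : ℕ := bif Nat.blt j 138 then E_137 else (eT_138_140 j)
def eT_135_140 (j : ℕ) : ℕ := bif Nat.blt j 137 then (eT_135_137 j) else (eT_137_140 j)
def eT_140_142 (j : ℕ) : ℕ := bif Nat.blt j 141 then E_140 else E_141
def eT_143_145 (j : ℕ) : ℕ := bif Nat.blt j 144 then E_143 else E_144
def eT_142_145 (j : ℕ) : ℕ := bif Nat.blt j 143 then E_142 else (eT_143_145 j)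
def eT_140_145 (j : ℕ) : ℕ := bif Nat.blt j 142 then (eT_140_142 j) else (eT_142_145 j)
def eT_135_145 (j : ℕ) : ℕ := bif Nat.blt j 140 then (eT_135_140 j) else (eT_140_145 j)
def eT_145_147 (j : ℕ) : ℕ := bif Nat.blt j 146 then E_145 else E_146
def eT_148_150 (j : ℕ) : ℕ := bif Nat.blt j 149 then E_148 else E_149
def eT_147_150 (j : ℕ) : ℕ := bif Nat.blt j 148 then E_147 else (eT_148_150 j)
def eT_145_150 (j : ℕ) : ℕ := bif Nat.blt j 147 then (eT_145_147 j) else (eT_147_150 j)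
def eT_150_152 (j : ℕ) : ℕ := bif Nat.blt j 151 then E_150 else E_151
def eT_153_155 (j : ℕ) : ℕ := bif Nat.blt j 154 then E_153 else E_154
def eT_152_155 (j : ℕ) : ℕ := bif Nat.blt j 153 then E_152 else (eT_153_155 j)
def eT_150_155 (j : ℕ) : ℕ := bif Nat.blt j 152 then (eT_150_152 j) else (eT_152_155 j)
def eT_145_155 (j : ℕ) : ℕ := bif Nat.blt j 150 then (eT_145_150 j) else (eT_150_155 j)
def eT_135_155 (j : ℕ) : ℕ := bif Nat.blt j 145 then (eT_135_145 j) else (eT_145_155 j)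
def eT_116_155 (j : ℕ) : ℕ := bif Nat.blt j 135 then (eT_116_135 j) else (eT_135_155 j)
def eT_77_155 (j : ℕ) : ℕ := bif Nat.blt j 116 then (eT_77_116 j) else (eT_116_155 j)
def eT_0_155 (j : ℕ) : ℕ := bif Nat.blt j 77 then (eT_0_77 j) else (eT_77_155 j)
def eT (j : ℕ) : ℕ := (eT_0_155 j)
noncomputable def chunkF (h : ℕ) : ℕ := Nat.rec (motive := fun _ => ℕ) (eT 0) (fun n _ => eT (Nat.succ n)) h
noncomputable def Eo (r : ℕ) : ℕ := Nat.land (Nat.shiftRight (chunkF (Nat.shiftRight r 8)) (Nat.mul (Nat.land r 255) 54)) 18014398509481983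
def invT : ℕ := 0xffef7cefae78df6d74cf2c70beeb6caeaa689e69648e28607de75c6da6585d65544d24503ce34c2ca2481c61440c2040
def inv (y : ℕ) : ℕ := invOf invT y
def Wt_0_2 (j : ℕ) : List ℕ := bif Nat.blt j 1 then [nat_lit 0, nat_lit 7, nat_lit 0, nat_lit 7] else [nat_lit 1, nat_lit 7, nat_lit 1, nat_lit 7]
def Wt_3_5 (j : ℕ) : List ℕ := bif Nat.blt j 4 then [nat_lit 3, nat_lit 7, nat_lit 3, nat_lit 7] else [nat_lit 4, nat_lit 7, nat_lit 4, nat_lit 7]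
def Wt_2_5 (j : ℕ) : List ℕ := bif Nat.blt j 3 then [nat_lit 2, nat_lit 7, nat_lit 2, nat_lit 7] else (Wt_3_5 j)
def Wt_0_5 (j : ℕ) : List ℕ := bif Nat.blt j 2 then (Wt_0_2 j) else (Wt_2_5 j)
def Wt_5_7 (j : ℕ) : List ℕ := bif Nat.blt j 6 then [nat_lit 6, nat_lit 7, nat_lit 6, nat_lit 7] else [nat_lit 3, nat_lit 5, nat_lit 3, nat_lit 5]
def Wt_8_10 (j : ℕ) : List ℕ := bif Nat.blt j 9 then [nat_lit 7, nat_lit 5, nat_lit 7, nat_lit 5, nat_lit 7, nat_lit 5] else [nat_lit 3, nat_lit 0, nat_lit 3, nat_lit 0]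
def Wt_7_10 (j : ℕ) : List ℕ := bif Nat.blt j 8 then [nat_lit 6, nat_lit 5, nat_lit 6, nat_lit 5] else (Wt_8_10 j)
def Wt_5_10 (j : ℕ) : List ℕ := bif Nat.blt j 7 then (Wt_5_7 j) else (Wt_7_10 j)
def Wt_0_10 (j : ℕ) : List ℕ := bif Nat.blt j 5 then (Wt_0_5 j) else (Wt_5_10 j)
def Wt_10_12 (j : ℕ) : List ℕ := bif Nat.blt j 11 then [nat_lit 7, nat_lit 0, nat_lit 7, nat_lit 0] else [nat_lit 7, nat_lit 1, nat_lit 7, nat_lit 1]
def Wt_13_15 (j : ℕ) : List ℕ := bif Nat.blt j 14 then [nat_lit 6, nat_lit 2, nat_lit 6, nat_lit 2] else [nat_lit 7, nat_lit 2, nat_lit 7, nat_lit 2]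
def Wt_12_15 (j : ℕ) : List ℕ := bif Nat.blt j 13 then [nat_lit 3, nat_lit 2, nat_lit 3, nat_lit 2] else (Wt_13_15 j)
def Wt_10_15 (j : ℕ) : List ℕ := bif Nat.blt j 12 then (Wt_10_12 j) else (Wt_12_15 j)
def Wt_16_18 (j : ℕ) : List ℕ := bif Nat.blt j 17 then [nat_lit 7, nat_lit 4, nat_lit 7, nat_lit 4] else [nat_lit 0, nat_lit 4, nat_lit 0, nat_lit 4]
def Wt_15_18 (j : ℕ) : List ℕ := bif Nat.blt j 16 then [nat_lit 6, nat_lit 4, nat_lit 6, nat_lit 4] else (Wt_16_18 j)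
def Wt_19_21 (j : ℕ) : List ℕ := bif Nat.blt j 20 then [nat_lit 1, nat_lit 3, nat_lit 1, nat_lit 3, nat_lit 1, nat_lit 3] else [nat_lit 1, nat_lit 4, nat_lit 1, nat_lit 4]
def Wt_18_21 (j : ℕ) : List ℕ := bif Nat.blt j 19 then [nat_lit 1, nat_lit 2, nat_lit 1, nat_lit 2] else (Wt_19_21 j)
def Wt_15_21 (j : ℕ) : List ℕ := bif Nat.blt j 18 then (Wt_15_18 j) else (Wt_18_21 j)
def Wt_10_21 (j : ℕ) : List ℕ := bif Nat.blt j 15 then (Wt_10_15 j) else (Wt_15_21 j)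
def Wt_0_21 (j : ℕ) : List ℕ := bif Nat.blt j 10 then (Wt_0_10 j) else (Wt_10_21 j)
def Wt_21_23 (j : ℕ) : List ℕ := bif Nat.blt j 22 then [nat_lit 6, nat_lit 0, nat_lit 6, nat_lit 0] else [nat_lit 2, nat_lit 4, nat_lit 2, nat_lit 4]
def Wt_24_26 (j : ℕ) : List ℕ := bif Nat.blt j 25 then [nat_lit 7, nat_lit 3, nat_lit 7, nat_lit 3] else [nat_lit 1, nat_lit 0, nat_lit 1, nat_lit 0, nat_lit 1, nat_lit 0]
def Wt_23_26 (j : ℕ) : List ℕ := bif Nat.blt j 24 then [nat_lit 4, nat_lit 3, nat_lit 4, nat_lit 3, nat_lit 4, nat_lit 3] else (Wt_24_26 j)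
def Wt_21_26 (j : ℕ) : List ℕ := bif Nat.blt j 23 then (Wt_21_23 j) else (Wt_23_26 j)
def Wt_27_29 (j : ℕ) : List ℕ := bif Nat.blt j 28 then [nat_lit 0, nat_lit 3, nat_lit 0, nat_lit 3] else [nat_lit 2, nat_lit 3, nat_lit 2, nat_lit 3]
def Wt_26_29 (j : ℕ) : List ℕ := bif Nat.blt j 27 then [nat_lit 2, nat_lit 0, nat_lit 2, nat_lit 0, nat_lit 2, nat_lit 0] else (Wt_27_29 j)
def Wt_30_32 (j : ℕ) : List ℕ := bif Nat.blt j 31 then [nat_lit 5, nat_lit 5, nat_lit 63] else [nat_lit 4, nat_lit 1, nat_lit 4, nat_lit 1]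
def Wt_29_32 (j : ℕ) : List ℕ := bif Nat.blt j 30 then [nat_lit 63, nat_lit 2, nat_lit 3, nat_lit 1, nat_lit 4, nat_lit 1, nat_lit 4, nat_lit 3, nat_lit 5, nat_lit 2, nat_lit 3, nat_lit 1, nat_lit 4, nat_lit 1, nat_lit 4, nat_lit 3, nat_lit 5, nat_lit 2, nat_lit 3, nat_lit 1, nat_lit 4, nat_lit 1, nat_lit 4, nat_lit 3, nat_lit 5] else (Wt_30_32 j)
def Wt_26_32 (j : ℕ) : List ℕ := bif Nat.blt j 29 then (Wt_26_29 j) else (Wt_29_32 j)
def Wt_21_32 (j : ℕ) : List ℕ := bif Nat.blt j 26 then (Wt_21_26 j) else (Wt_26_32 j)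
def Wt_32_34 (j : ℕ) : List ℕ := bif Nat.blt j 33 then [nat_lit 63, nat_lit 4, nat_lit 5, nat_lit 3, nat_lit 5, nat_lit 0, nat_lit 4, nat_lit 0, nat_lit 5, nat_lit 4, nat_lit 5, nat_lit 3, nat_lit 5, nat_lit 0, nat_lit 4, nat_lit 0, nat_lit 5, nat_lit 4, nat_lit 5, nat_lit 3, nat_lit 5, nat_lit 0, nat_lit 4, nat_lit 0, nat_lit 5] else [nat_lit 63, nat_lit 3, nat_lit 63, nat_lit 3]
def Wt_35_37 (j : ℕ) : List ℕ := bif Nat.blt j 36 then [nat_lit 4, nat_lit 6, nat_lit 4, nat_lit 6] else [nat_lit 5, nat_lit 6, nat_lit 5, nat_lit 6]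
def Wt_34_37 (j : ℕ) : List ℕ := bif Nat.blt j 35 then [nat_lit 3, nat_lit 6, nat_lit 3, nat_lit 6, nat_lit 3, nat_lit 6] else (Wt_35_37 j)
def Wt_32_37 (j : ℕ) : List ℕ := bif Nat.blt j 34 then (Wt_32_34 j) else (Wt_34_37 j)
def Wt_38_40 (j : ℕ) : List ℕ := bif Nat.blt j 39 then [nat_lit 2, nat_lit 1, nat_lit 2, nat_lit 1] else [nat_lit 0, nat_lit 6, nat_lit 0, nat_lit 6]
def Wt_37_40 (j : ℕ) : List ℕ := bif Nat.blt j 38 then [nat_lit 7, nat_lit 6, nat_lit 7, nat_lit 6] else (Wt_38_40 j)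
def Wt_41_43 (j : ℕ) : List ℕ := bif Nat.blt j 42 then [nat_lit 2, nat_lit 6, nat_lit 2, nat_lit 6] else [nat_lit 5, nat_lit 7, nat_lit 5, nat_lit 7, nat_lit 5, nat_lit 7]
def Wt_40_43 (j : ℕ) : List ℕ := bif Nat.blt j 41 then [nat_lit 0, nat_lit 1, nat_lit 0, nat_lit 1, nat_lit 0, nat_lit 1] else (Wt_41_43 j)
def Wt_37_43 (j : ℕ) : List ℕ := bif Nat.blt j 40 then (Wt_37_40 j) else (Wt_40_43 j)
def Wt_32_43 (j : ℕ) : List ℕ := bif Nat.blt j 37 then (Wt_32_37 j) else (Wt_37_43 j)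
def Wt_21_43 (j : ℕ) : List ℕ := bif Nat.blt j 32 then (Wt_21_32 j) else (Wt_32_43 j)
def Wt_0_43 (j : ℕ) : List ℕ := bif Nat.blt j 21 then (Wt_0_21 j) else (Wt_21_43 j)
def Wt_43_45 (j : ℕ) : List ℕ := bif Nat.blt j 44 then [nat_lit 4, nat_lit 0, nat_lit 4, nat_lit 0] else [nat_lit 3, nat_lit 1, nat_lit 3, nat_lit 1, nat_lit 3, nat_lit 1]
def Wt_46_48 (j : ℕ) : List ℕ := bif Nat.blt j 47 then [nat_lit 63, nat_lit 2, nat_lit 63, nat_lit 2] else [nat_lit 63, nat_lit 5, nat_lit 63, nat_lit 5]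
def Wt_45_48 (j : ℕ) : List ℕ := bif Nat.blt j 46 then [nat_lit 63, nat_lit 3, nat_lit 2, nat_lit 0, nat_lit 3, nat_lit 1, nat_lit 4, nat_lit 5, nat_lit 2, nat_lit 3, nat_lit 2, nat_lit 0, nat_lit 3, nat_lit 1, nat_lit 4, nat_lit 5, nat_lit 2, nat_lit 3, nat_lit 2, nat_lit 0, nat_lit 3, nat_lit 1, nat_lit 4, nat_lit 5, nat_lit 2] else (Wt_46_48 j)
def Wt_43_48 (j : ℕ) : List ℕ := bif Nat.blt j 45 then (Wt_43_45 j) else (Wt_45_48 j)
def Wt_49_51 (j : ℕ) : List ℕ := bif Nat.blt j 50 then [nat_lit 63, nat_lit 5, nat_lit 63, nat_lit 5, nat_lit 63] else [nat_lit 63, nat_lit 0, nat_lit 63, nat_lit 0]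
def Wt_48_51 (j : ℕ) : List ℕ := bif Nat.blt j 49 then [nat_lit 63, nat_lit 7, nat_lit 63, nat_lit 7] else (Wt_49_51 j)
def Wt_52_54 (j : ℕ) : List ℕ := bif Nat.blt j 53 then [nat_lit 63, nat_lit 63, nat_lit 63] else [nat_lit 63, nat_lit 4, nat_lit 63, nat_lit 4]
def Wt_51_54 (j : ℕ) : List ℕ := bif Nat.blt j 52 then [nat_lit 63, nat_lit 1, nat_lit 63, nat_lit 1, nat_lit 63] else (Wt_52_54 j)
def Wt_48_54 (j : ℕ) : List ℕ := bif Nat.blt j 51 then (Wt_48_51 j) else (Wt_51_54 j)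
def Wt_43_54 (j : ℕ) : List ℕ := bif Nat.blt j 48 then (Wt_43_48 j) else (Wt_48_54 j)
def Wt_54_56 (j : ℕ) : List ℕ := bif Nat.blt j 55 then [nat_lit 1, nat_lit 1, nat_lit 63] else [nat_lit 63, nat_lit 1, nat_lit 63, nat_lit 1]
def Wt_57_59 (j : ℕ) : List ℕ := bif Nat.blt j 58 then [nat_lit 63, nat_lit 4, nat_lit 63, nat_lit 4, nat_lit 63] else [nat_lit 1, nat_lit 63, nat_lit 1, nat_lit 63]
def Wt_56_59 (j : ℕ) : List ℕ := bif Nat.blt j 57 then [nat_lit 63, nat_lit 2, nat_lit 63, nat_lit 2, nat_lit 63] else (Wt_57_59 j)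
def Wt_54_59 (j : ℕ) : List ℕ := bif Nat.blt j 56 then (Wt_54_56 j) else (Wt_56_59 j)
def Wt_60_62 (j : ℕ) : List ℕ := bif Nat.blt j 61 then [nat_lit 63, nat_lit 0, nat_lit 63, nat_lit 0, nat_lit 63] else [nat_lit 0, nat_lit 0, nat_lit 63]
def Wt_59_62 (j : ℕ) : List ℕ := bif Nat.blt j 60 then [nat_lit 3, nat_lit 3, nat_lit 63] else (Wt_60_62 j)
def Wt_63_65 (j : ℕ) : List ℕ := bif Nat.blt j 64 then [nat_lit 63, nat_lit 6, nat_lit 63, nat_lit 6] else [nat_lit 63, nat_lit 1, nat_lit 3, nat_lit 2, nat_lit 3, nat_lit 0, nat_lit 1, nat_lit 5, nat_lit 1, nat_lit 3, nat_lit 2, nat_lit 3, nat_lit 0, nat_lit 1, nat_lit 5, nat_lit 1, nat_lit 3, nat_lit 2, nat_lit 3, nat_lit 0, nat_lit 1, nat_lit 5, nat_lit 1, nat_lit 3, nat_lit 2, nat_lit 3, nat_lit 0, nat_lit 1, nat_lit 5]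
def Wt_62_65 (j : ℕ) : List ℕ := bif Nat.blt j 63 then [nat_lit 2, nat_lit 2, nat_lit 63] else (Wt_63_65 j)
def Wt_59_65 (j : ℕ) : List ℕ := bif Nat.blt j 62 then (Wt_59_62 j) else (Wt_62_65 j)
def Wt_54_65 (j : ℕ) : List ℕ := bif Nat.blt j 59 then (Wt_54_59 j) else (Wt_59_65 j)
def Wt_43_65 (j : ℕ) : List ℕ := bif Nat.blt j 54 then (Wt_43_54 j) else (Wt_54_65 j)
def Wt_65_67 (j : ℕ) : List ℕ := bif Nat.blt j 66 then [nat_lit 5, nat_lit 3, nat_lit 5, nat_lit 3] else [nat_lit 63, nat_lit 1, nat_lit 0, nat_lit 1, nat_lit 5, nat_lit 0, nat_lit 3, nat_lit 1, nat_lit 0, nat_lit 1, nat_lit 5, nat_lit 0, nat_lit 3, nat_lit 1, nat_lit 0, nat_lit 1, nat_lit 5, nat_lit 0, nat_lit 3, nat_lit 1, nat_lit 0, nat_lit 1, nat_lit 5, nat_lit 0, nat_lit 3]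
def Wt_68_70 (j : ℕ) : List ℕ := bif Nat.blt j 69 then [nat_lit 2, nat_lit 1, nat_lit 5, nat_lit 1, nat_lit 0, nat_lit 4, nat_lit 5, nat_lit 0, nat_lit 2, nat_lit 1, nat_lit 5, nat_lit 1, nat_lit 0, nat_lit 4, nat_lit 5, nat_lit 0, nat_lit 2, nat_lit 1, nat_lit 5, nat_lit 1, nat_lit 0, nat_lit 4, nat_lit 5, nat_lit 0] else [nat_lit 4, nat_lit 2, nat_lit 4, nat_lit 2]
def Wt_67_70 (j : ℕ) : List ℕ := bif Nat.blt j 68 then [nat_lit 0, nat_lit 4, nat_lit 5, nat_lit 3, nat_lit 2, nat_lit 3, nat_lit 0, nat_lit 5, nat_lit 0, nat_lit 4, nat_lit 5, nat_lit 3, nat_lit 2, nat_lit 3, nat_lit 0, nat_lit 5, nat_lit 0, nat_lit 4, nat_lit 5, nat_lit 3, nat_lit 2, nat_lit 3, nat_lit 0, nat_lit 5] else (Wt_68_70 j)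
def Wt_65_70 (j : ℕ) : List ℕ := bif Nat.blt j 67 then (Wt_65_67 j) else (Wt_67_70 j)
def Wt_71_73 (j : ℕ) : List ℕ := bif Nat.blt j 72 then [nat_lit 63, nat_lit 3, nat_lit 2, nat_lit 3, nat_lit 2] else [nat_lit 4, nat_lit 4, nat_lit 63]
def Wt_70_73 (j : ℕ) : List ℕ := bif Nat.blt j 71 then [nat_lit 2, nat_lit 3, nat_lit 1, nat_lit 4, nat_lit 1, nat_lit 4, nat_lit 3, nat_lit 5, nat_lit 2, nat_lit 3, nat_lit 1, nat_lit 4, nat_lit 1, nat_lit 4, nat_lit 3, nat_lit 5, nat_lit 2, nat_lit 3, nat_lit 1, nat_lit 4, nat_lit 1, nat_lit 4, nat_lit 3, nat_lit 5] else (Wt_71_73 j)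
def Wt_74_76 (j : ℕ) : List ℕ := bif Nat.blt j 75 then [nat_lit 63, nat_lit 5, nat_lit 2, nat_lit 3, nat_lit 2, nat_lit 0, nat_lit 3, nat_lit 1, nat_lit 4, nat_lit 5, nat_lit 2, nat_lit 3, nat_lit 2, nat_lit 0, nat_lit 3, nat_lit 1, nat_lit 4, nat_lit 5, nat_lit 2, nat_lit 3, nat_lit 2, nat_lit 0, nat_lit 3, nat_lit 1, nat_lit 4] else [nat_lit 0, nat_lit 63, nat_lit 0, nat_lit 63]
def Wt_73_76 (j : ℕ) : List ℕ := bif Nat.blt j 74 then [nat_lit 63, nat_lit 5, nat_lit 0, nat_lit 4, nat_lit 5, nat_lit 3, nat_lit 2, nat_lit 3, nat_lit 0, nat_lit 5, nat_lit 0, nat_lit 4, nat_lit 5, nat_lit 3, nat_lit 2, nat_lit 3, nat_lit 0, nat_lit 5, nat_lit 0, nat_lit 4, nat_lit 5, nat_lit 3, nat_lit 2, nat_lit 3, nat_lit 0] else (Wt_74_76 j)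
def Wt_70_76 (j : ℕ) : List ℕ := bif Nat.blt j 73 then (Wt_70_73 j) else (Wt_73_76 j)
def Wt_65_76 (j : ℕ) : List ℕ := bif Nat.blt j 70 then (Wt_65_70 j) else (Wt_70_76 j)
def Wt_76_78 (j : ℕ) : List ℕ := bif Nat.blt j 77 then [nat_lit 4, nat_lit 63, nat_lit 4, nat_lit 63] else [nat_lit 0, nat_lit 2, nat_lit 0, nat_lit 2, nat_lit 0, nat_lit 2]
def Wt_79_81 (j : ℕ) : List ℕ := bif Nat.blt j 80 then [nat_lit 5, nat_lit 3, nat_lit 2, nat_lit 4, nat_lit 3, nat_lit 4, nat_lit 3, nat_lit 5, nat_lit 3, nat_lit 2, nat_lit 4, nat_lit 3, nat_lit 4, nat_lit 3, nat_lit 5, nat_lit 3, nat_lit 2, nat_lit 4, nat_lit 3, nat_lit 4, nat_lit 3, nat_lit 5, nat_lit 3, nat_lit 2, nat_lit 4, nat_lit 3, nat_lit 4, nat_lit 3] else [nat_lit 0, nat_lit 5, nat_lit 3, nat_lit 1, nat_lit 4, nat_lit 0, nat_lit 4, nat_lit 5, nat_lit 0, nat_lit 5, nat_lit 3, nat_lit 1, nat_lit 4, nat_lit 0, nat_lit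 4, nat_lit 5, nat_lit 0, nat_lit 5, nat_lit 3, nat_lit 1, nat_lit 4, nat_lit 0, nat_lit 4, nat_lit 5]
def Wt_78_81 (j : ℕ) : List ℕ := bif Nat.blt j 79 then [nat_lit 3, nat_lit 4, nat_lit 3, nat_lit 4, nat_lit 3, nat_lit 4] else (Wt_79_81 j)
def Wt_76_81 (j : ℕ) : List ℕ := bif Nat.blt j 78 then (Wt_76_78 j) else (Wt_78_81 j)
def Wt_82_84 (j : ℕ) : List ℕ := bif Nat.blt j 83 then [nat_lit 4, nat_lit 5, nat_lit 2, nat_lit 3, nat_lit 2, nat_lit 0, nat_lit 3, nat_lit 1, nat_lit 4, nat_lit 5, nat_lit 2, nat_lit 3, nat_lit 2, nat_lit 0, nat_lit 3, nat_lit 1, nat_lit 4, nat_lit 5, nat_lit 2, nat_lit 3, nat_lit 2, nat_lit 0, nat_lit 3, nat_lit 1] else [nat_lit 63, nat_lit 4, nat_lit 0, nat_lit 5, nat_lit 4, nat_lit 5, nat_lit 3, nat_lit 5, nat_lit 0, nat_lit 4, nat_lit 0, nat_lit 5, nat_lit 4, nat_lit 5, nat_lit 3, nat_lit 5, nat_lit 0, nat_lit 4, nat_lit 0, nat_lit 5,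 nat_lit 4, nat_lit 5, nat_lit 3, nat_lit 5, nat_lit 0]
def Wt_81_84 (j : ℕ) : List ℕ := bif Nat.blt j 82 then [nat_lit 0, nat_lit 1, nat_lit 5, nat_lit 0, nat_lit 3, nat_lit 1, nat_lit 0, nat_lit 1, nat_lit 5, nat_lit 0, nat_lit 3, nat_lit 1, nat_lit 0, nat_lit 1, nat_lit 5, nat_lit 0, nat_lit 3, nat_lit 1, nat_lit 0, nat_lit 1, nat_lit 5, nat_lit 0, nat_lit 3, nat_lit 1] else (Wt_82_84 j)
def Wt_85_87 (j : ℕ) : List ℕ := bif Nat.blt j 86 then [nat_lit 5, nat_lit 1, nat_lit 0, nat_lit 4, nat_lit 0, nat_lit 2, nat_lit 5, nat_lit 1, nat_lit 0, nat_lit 4, nat_lit 0, nat_lit 2, nat_lit 5, nat_lit 1, nat_lit 0, nat_lit 4, nat_lit 0, nat_lit 2, nat_lit 5, nat_lit 1, nat_lit 0, nat_lit 4, nat_lit 0, nat_lit 2] else [nat_lit 5, nat_lit 0, nat_lit 2, nat_lit 1, nat_lit 5, nat_lit 1, nat_lit 0, nat_lit 4, nat_lit 5, nat_lit 0, nat_lit 2, nat_lit 1, nat_lit 5, nat_lit 1, nat_lit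 0, nat_lit 4, nat_lit 5, nat_lit 0, nat_lit 2, nat_lit 1, nat_lit 5, nat_lit 1, nat_lit 0, nat_lit 4]
def Wt_84_87 (j : ℕ) : List ℕ := bif Nat.blt j 85 then [nat_lit 6, nat_lit 3, nat_lit 6, nat_lit 3, nat_lit 6, nat_lit 3] else (Wt_85_87 j)
def Wt_81_87 (j : ℕ) : List ℕ := bif Nat.blt j 84 then (Wt_81_84 j) else (Wt_84_87 j)
def Wt_76_87 (j : ℕ) : List ℕ := bif Nat.blt j 81 then (Wt_76_81 j) else (Wt_81_87 j)
def Wt_65_87 (j : ℕ) : List ℕ := bif Nat.blt j 76 then (Wt_65_76 j) else (Wt_76_87 j)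
def Wt_43_87 (j : ℕ) : List ℕ := bif Nat.blt j 65 then (Wt_43_65 j) else (Wt_65_87 j)
def Wt_0_87 (j : ℕ) : List ℕ := bif Nat.blt j 43 then (Wt_0_43 j) else (Wt_43_87 j)
def Wt_87_89 (j : ℕ) : List ℕ := bif Nat.blt j 88 then [nat_lit 5, nat_lit 2, nat_lit 3, nat_lit 1, nat_lit 4, nat_lit 1, nat_lit 4, nat_lit 3, nat_lit 5, nat_lit 2, nat_lit 3, nat_lit 1, nat_lit 4, nat_lit 1, nat_lit 4, nat_lit 3, nat_lit 5, nat_lit 2, nat_lit 3, nat_lit 1, nat_lit 4, nat_lit 1, nat_lit 4, nat_lit 3] else [nat_lit 5, nat_lit 4, nat_lit 3, nat_lit 5, nat_lit 3, nat_lit 4, nat_lit 3, nat_lit 5, nat_lit 4, nat_lit 3, nat_lit 5, nat_lit 3, nat_lit 4, nat_lit 3, nat_lit 5, nat_lit 4, nat_lit 3, nat_lit 5, nat_lit 3, nat_lit 4, nat_lit 3, nat_lit 5, nat_lit 4, nat_lit 3, nat_lit 5, nat_lit 3, nat_lit 4, nat_lit 3]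
def Wt_90_92 (j : ℕ) : List ℕ := bif Nat.blt j 91 then [nat_lit 63, nat_lit 4, nat_lit 2, nat_lit 4, nat_lit 2] else [nat_lit 5, nat_lit 1, nat_lit 3, nat_lit 2, nat_lit 3, nat_lit 0, nat_lit 1, nat_lit 5, nat_lit 1, nat_lit 3, nat_lit 2, nat_lit 3, nat_lit 0, nat_lit 1, nat_lit 5, nat_lit 1, nat_lit 3, nat_lit 2, nat_lit 3, nat_lit 0, nat_lit 1, nat_lit 5, nat_lit 1, nat_lit 3, nat_lit 2, nat_lit 3, nat_lit 0, nat_lit 1]
def Wt_89_92 (j : ℕ) : List ℕ := bif Nat.blt j 90 then [nat_lit 4, nat_lit 3, nat_lit 2, nat_lit 1, nat_lit 0, nat_lit 5, nat_lit 4, nat_lit 3, nat_lit 2, nat_lit 1, nat_lit 0, nat_lit 5, nat_lit 4, nat_lit 3, nat_lit 2, nat_lit 1, nat_lit 0, nat_lit 5, nat_lit 4, nat_lit 3, nat_lit 2, nat_lit 1, nat_lit 0, nat_lit 5] else (Wt_90_92 j)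
def Wt_87_92 (j : ℕ) : List ℕ := bif Nat.blt j 89 then (Wt_87_89 j) else (Wt_89_92 j)
def Wt_93_95 (j : ℕ) : List ℕ := bif Nat.blt j 94 then [nat_lit 0, nat_lit 1, nat_lit 3, nat_lit 0, nat_lit 5, nat_lit 1, nat_lit 0, nat_lit 1, nat_lit 3, nat_lit 0, nat_lit 5, nat_lit 1, nat_lit 0, nat_lit 1, nat_lit 3, nat_lit 0, nat_lit 5, nat_lit 1, nat_lit 0, nat_lit 1, nat_lit 3, nat_lit 0, nat_lit 5, nat_lit 1] else [nat_lit 63, nat_lit 4, nat_lit 5, nat_lit 0, nat_lit 2, nat_lit 1, nat_lit 5, nat_lit 1, nat_lit 0, nat_lit 4, nat_lit 5, nat_lit 0, nat_lit 2, nat_lit 1, nat_lit 5, nat_lit 1, nat_lit 0, nat_lit 4, nat_lit 5, nat_lit 0, nat_lit 2, nat_lit 1, nat_lit 5, nat_lit 1, nat_lit 0]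
def Wt_92_95 (j : ℕ) : List ℕ := bif Nat.blt j 93 then [nat_lit 5, nat_lit 0, nat_lit 3, nat_lit 4, nat_lit 5, nat_lit 4, nat_lit 5, nat_lit 0, nat_lit 3, nat_lit 4, nat_lit 5, nat_lit 4, nat_lit 5, nat_lit 0, nat_lit 3, nat_lit 4, nat_lit 5, nat_lit 4, nat_lit 5, nat_lit 0, nat_lit 3, nat_lit 4, nat_lit 5, nat_lit 4] else (Wt_93_95 j)
def Wt_96_98 (j : ℕ) : List ℕ := bif Nat.blt j 97 then [nat_lit 63, nat_lit 0, nat_lit 1, nat_lit 0, nat_lit 1, nat_lit 0, nat_lit 1] else [nat_lit 4, nat_lit 3, nat_lit 5, nat_lit 3, nat_lit 2, nat_lit 4, nat_lit 3, nat_lit 4, nat_lit 3, nat_lit 5, nat_lit 3, nat_lit 2, nat_lit 4, nat_lit 3, nat_lit 4, nat_lit 3, nat_lit 5, nat_lit 3, nat_lit 2, nat_lit 4, nat_lit 3, nat_lit 4, nat_lit 3, nat_lit 5, nat_lit 3, nat_lit 2, nat_lit 4, nat_lit 3]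
def Wt_95_98 (j : ℕ) : List ℕ := bif Nat.blt j 96 then [nat_lit 1, nat_lit 3, nat_lit 0, nat_lit 2, nat_lit 3, nat_lit 2, nat_lit 5, nat_lit 4, nat_lit 1, nat_lit 3, nat_lit 0, nat_lit 2, nat_lit 3, nat_lit 2, nat_lit 5, nat_lit 4, nat_lit 1, nat_lit 3, nat_lit 0, nat_lit 2, nat_lit 3, nat_lit 2, nat_lit 5, nat_lit 4] else (Wt_96_98 j)
def Wt_92_98 (j : ℕ) : List ℕ := bif Nat.blt j 95 then (Wt_92_95 j) else (Wt_95_98 j)
def Wt_87_98 (j : ℕ) : List ℕ := bif Nat.blt j 92 then (Wt_87_92 j) else (Wt_92_98 j)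
def Wt_98_100 (j : ℕ) : List ℕ := bif Nat.blt j 99 then [nat_lit 63, nat_lit 4, nat_lit 5, nat_lit 4, nat_lit 5, nat_lit 0, nat_lit 3, nat_lit 4, nat_lit 5, nat_lit 4, nat_lit 5, nat_lit 0, nat_lit 3, nat_lit 4, nat_lit 5, nat_lit 4, nat_lit 5, nat_lit 0, nat_lit 3, nat_lit 4, nat_lit 5, nat_lit 4, nat_lit 5, nat_lit 0, nat_lit 3] else [nat_lit 0, nat_lit 5, nat_lit 4, nat_lit 5, nat_lit 4, nat_lit 3, nat_lit 0, nat_lit 5, nat_lit 4, nat_lit 5, nat_lit 4, nat_lit 3, nat_lit 0, nat_lit 5, nat_lit 4, nat_lit 5, nat_lit 4, nat_lit 3, nat_lit 0, nat_lit 5, nat_lit 4, nat_lit 5, nat_lit 4, nat_lit 3]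
def Wt_101_103 (j : ℕ) : List ℕ := bif Nat.blt j 102 then [nat_lit 63, nat_lit 5, nat_lit 2, nat_lit 0, nat_lit 4, nat_lit 0, nat_lit 1, nat_lit 5, nat_lit 2, nat_lit 0, nat_lit 4, nat_lit 0, nat_lit 1, nat_lit 5, nat_lit 2, nat_lit 0, nat_lit 4, nat_lit 0, nat_lit 1, nat_lit 5, nat_lit 2, nat_lit 0, nat_lit 4, nat_lit 0, nat_lit 1] else [nat_lit 63, nat_lit 4, nat_lit 5, nat_lit 3, nat_lit 2, nat_lit 3, nat_lit 0, nat_lit 5, nat_lit 0, nat_lit 4, nat_lit 5, nat_lit 3, nat_lit 2, nat_lit 3, nat_lit 0, nat_lit 5, nat_lit 0, nat_lit 4, nat_lit 5, nat_lit 3, nat_lit 2, nat_lit 3, nat_lit 0, nat_lit 5, nat_lit 0]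
def Wt_100_103 (j : ℕ) : List ℕ := bif Nat.blt j 101 then [nat_lit 5, nat_lit 3, nat_lit 4, nat_lit 3, nat_lit 4, nat_lit 2, nat_lit 3, nat_lit 5, nat_lit 3, nat_lit 4, nat_lit 3, nat_lit 4, nat_lit 2, nat_lit 3, nat_lit 5, nat_lit 3, nat_lit 4, nat_lit 3, nat_lit 4, nat_lit 2, nat_lit 3, nat_lit 5, nat_lit 3, nat_lit 4, nat_lit 3, nat_lit 4, nat_lit 2, nat_lit 3] else (Wt_101_103 j)
def Wt_98_103 (j : ℕ) : List ℕ := bif Nat.blt j 100 then (Wt_98_100 j) else (Wt_100_103 j)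
def Wt_104_106 (j : ℕ) : List ℕ := bif Nat.blt j 105 then [nat_lit 5, nat_lit 0, nat_lit 4, nat_lit 5, nat_lit 3, nat_lit 2, nat_lit 3, nat_lit 0, nat_lit 5, nat_lit 0, nat_lit 4, nat_lit 5, nat_lit 3, nat_lit 2, nat_lit 3, nat_lit 0, nat_lit 5, nat_lit 0, nat_lit 4, nat_lit 5, nat_lit 3, nat_lit 2, nat_lit 3, nat_lit 0] else [nat_lit 0, nat_lit 3, nat_lit 1, nat_lit 0, nat_lit 1, nat_lit 5, nat_lit 0, nat_lit 3, nat_lit 1, nat_lit 0, nat_lit 1, nat_lit 5, nat_lit 0, nat_lit 3, nat_lit 1, nat_lit 0, nat_lit 1, nat_lit 5, nat_lit 0, nat_lit 3, nat_lit 1, nat_lit 0, nat_lit 1, nat_lit 5]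
def Wt_103_106 (j : ℕ) : List ℕ := bif Nat.blt j 104 then [nat_lit 63, nat_lit 0, nat_lit 2, nat_lit 0, nat_lit 2, nat_lit 0, nat_lit 2] else (Wt_104_106 j)
def Wt_107_109 (j : ℕ) : List ℕ := bif Nat.blt j 108 then [nat_lit 5, nat_lit 4, nat_lit 0, nat_lit 4, nat_lit 1, nat_lit 3, nat_lit 5, nat_lit 0, nat_lit 5, nat_lit 4, nat_lit 0, nat_lit 4, nat_lit 1, nat_lit 3, nat_lit 5, nat_lit 0, nat_lit 5, nat_lit 4, nat_lit 0, nat_lit 4, nat_lit 1, nat_lit 3, nat_lit 5, nat_lit 0] else [nat_lit 1, nat_lit 0, nat_lit 4, nat_lit 0, nat_lit 2, nat_lit 5, nat_lit 1, nat_lit 0, nat_lit 4, nat_lit 0, nat_lit 2, nat_lit 5, nat_lit 1, nat_lit 0, nat_lit 4, nat_lit 0, nat_lit 2, nat_lit 5, nat_lit 1, nat_lit 0, nat_lit 4, nat_lit 0, nat_lit 2, nat_lit 5]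
def Wt_106_109 (j : ℕ) : List ℕ := bif Nat.blt j 107 then [nat_lit 1, nat_lit 0, nat_lit 1, nat_lit 3, nat_lit 0, nat_lit 5, nat_lit 1, nat_lit 0, nat_lit 1, nat_lit 3, nat_lit 0, nat_lit 5, nat_lit 1, nat_lit 0, nat_lit 1, nat_lit 3, nat_lit 0, nat_lit 5, nat_lit 1, nat_lit 0, nat_lit 1, nat_lit 3, nat_lit 0, nat_lit 5] else (Wt_107_109 j)
def Wt_103_109 (j : ℕ) : List ℕ := bif Nat.blt j 106 then (Wt_103_106 j) else (Wt_106_109 j)
def Wt_98_109 (j : ℕ) : List ℕ := bif Nat.blt j 103 then (Wt_98_103 j) else (Wt_103_109 j)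
def Wt_87_109 (j : ℕ) : List ℕ := bif Nat.blt j 98 then (Wt_87_98 j) else (Wt_98_109 j)
def Wt_109_111 (j : ℕ) : List ℕ := bif Nat.blt j 110 then [nat_lit 63, nat_lit 3, nat_lit 2, nat_lit 3, nat_lit 0, nat_lit 1, nat_lit 5, nat_lit 1, nat_lit 3, nat_lit 2, nat_lit 3, nat_lit 0, nat_lit 1, nat_lit 5, nat_lit 1, nat_lit 3, nat_lit 2, nat_lit 3, nat_lit 0, nat_lit 1, nat_lit 5, nat_lit 1, nat_lit 3, nat_lit 2, nat_lit 3, nat_lit 0, nat_lit 1, nat_lit 5, nat_lit 1] else [nat_lit 5, nat_lit 0, nat_lit 3, nat_lit 1, nat_lit 0, nat_lit 1, nat_lit 5, nat_lit 0, nat_lit 3, nat_lit 1, nat_lit 0, nat_lit 1, nat_lit 5, nat_lit 0, nat_lit 3, nat_lit 1, nat_lit 0, nat_lit 1, nat_lit 5, nat_lit 0, nat_lit 3, nat_lit 1, nat_lit 0, nat_lit 1]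
def Wt_112_114 (j : ℕ) : List ℕ := bif Nat.blt j 113 then [nat_lit 4, nat_lit 5, nat_lit 0, nat_lit 1, nat_lit 2, nat_lit 3, nat_lit 4, nat_lit 5, nat_lit 0, nat_lit 1, nat_lit 2, nat_lit 3, nat_lit 4, nat_lit 5, nat_lit 0, nat_lit 1, nat_lit 2, nat_lit 3, nat_lit 4, nat_lit 5, nat_lit 0, nat_lit 1, nat_lit 2, nat_lit 3] else [nat_lit 1, nat_lit 4, nat_lit 0, nat_lit 4, nat_lit 5, nat_lit 0, nat_lit 5, nat_lit 3, nat_lit 1, nat_lit 4, nat_lit 0, nat_lit 4, nat_lit 5, nat_lit 0, nat_lit 5, nat_lit 3, nat_lit 1, nat_lit 4, nat_lit 0, nat_lit 4, nat_lit 5, nat_lit 0, nat_lit 5, nat_lit 3]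
def Wt_111_114 (j : ℕ) : List ℕ := bif Nat.blt j 112 then [nat_lit 0, nat_lit 1, nat_lit 5, nat_lit 1, nat_lit 3, nat_lit 2, nat_lit 3, nat_lit 0, nat_lit 1, nat_lit 5, nat_lit 1, nat_lit 3, nat_lit 2, nat_lit 3, nat_lit 0, nat_lit 1, nat_lit 5, nat_lit 1, nat_lit 3, nat_lit 2, nat_lit 3, nat_lit 0, nat_lit 1, nat_lit 5, nat_lit 1, nat_lit 3, nat_lit 2, nat_lit 3] else (Wt_112_114 j)
def Wt_109_114 (j : ℕ) : List ℕ := bif Nat.blt j 111 then (Wt_109_111 j) else (Wt_111_114 j)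
def Wt_115_117 (j : ℕ) : List ℕ := bif Nat.blt j 116 then [nat_lit 3, nat_lit 5, nat_lit 0, nat_lit 4, nat_lit 0, nat_lit 5, nat_lit 4, nat_lit 5, nat_lit 3, nat_lit 5, nat_lit 0, nat_lit 4, nat_lit 0, nat_lit 5, nat_lit 4, nat_lit 5, nat_lit 3, nat_lit 5, nat_lit 0, nat_lit 4, nat_lit 0, nat_lit 5, nat_lit 4, nat_lit 5] else [nat_lit 4, nat_lit 5, nat_lit 3, nat_lit 2, nat_lit 3, nat_lit 0, nat_lit 5, nat_lit 0, nat_lit 4, nat_lit 5, nat_lit 3, nat_lit 2, nat_lit 3, nat_lit 0, nat_lit 5, nat_lit 0, nat_lit 4, nat_lit 5, nat_lit 3, nat_lit 2, nat_lit 3, nat_lit 0, nat_lit 5, nat_lit 0]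
def Wt_114_117 (j : ℕ) : List ℕ := bif Nat.blt j 115 then [nat_lit 4, nat_lit 3, nat_lit 4, nat_lit 3, nat_lit 5, nat_lit 3, nat_lit 2, nat_lit 4, nat_lit 3, nat_lit 4, nat_lit 3, nat_lit 5, nat_lit 3, nat_lit 2, nat_lit 4, nat_lit 3, nat_lit 4, nat_lit 3, nat_lit 5, nat_lit 3, nat_lit 2, nat_lit 4, nat_lit 3, nat_lit 4, nat_lit 3, nat_lit 5, nat_lit 3, nat_lit 2] else (Wt_115_117 j)
def Wt_118_120 (j : ℕ) : List ℕ := bif Nat.blt j 119 then [nat_lit 63, nat_lit 5, nat_lit 0, nat_lit 3, nat_lit 4, nat_lit 5, nat_lit 4, nat_lit 5, nat_lit 0, nat_lit 3, nat_lit 4, nat_lit 5, nat_lit 4, nat_lit 5, nat_lit 0, nat_lit 3, nat_lit 4, nat_lit 5, nat_lit 4, nat_lit 5, nat_lit 0, nat_lit 3, nat_lit 4, nat_lit 5, nat_lit 4] else [nat_lit 2, nat_lit 1, nat_lit 4, nat_lit 2, nat_lit 3, nat_lit 4, nat_lit 5, nat_lit 1, nat_lit 2, nat_lit 1, nat_lit 4, nat_lit 2, nat_lit 3, nat_lit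 4, nat_lit 5, nat_lit 1, nat_lit 2, nat_lit 1, nat_lit 4, nat_lit 2, nat_lit 3, nat_lit 4, nat_lit 5, nat_lit 1]
def Wt_117_120 (j : ℕ) : List ℕ := bif Nat.blt j 118 then [nat_lit 2, nat_lit 3, nat_lit 5, nat_lit 4, nat_lit 0, nat_lit 5, nat_lit 0, nat_lit 3, nat_lit 2, nat_lit 3, nat_lit 5, nat_lit 4, nat_lit 0, nat_lit 5, nat_lit 0, nat_lit 3, nat_lit 2, nat_lit 3, nat_lit 5, nat_lit 4, nat_lit 0, nat_lit 5, nat_lit 0, nat_lit 3] else (Wt_118_120 j)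
def Wt_114_120 (j : ℕ) : List ℕ := bif Nat.blt j 117 then (Wt_114_117 j) else (Wt_117_120 j)
def Wt_109_120 (j : ℕ) : List ℕ := bif Nat.blt j 114 then (Wt_109_114 j) else (Wt_114_120 j)
def Wt_120_122 (j : ℕ) : List ℕ := bif Nat.blt j 121 then [nat_lit 63, nat_lit 4, nat_lit 1, nat_lit 4, nat_lit 3, nat_lit 5, nat_lit 2, nat_lit 3, nat_lit 1, nat_lit 4, nat_lit 1, nat_lit 4, nat_lit 3, nat_lit 5, nat_lit 2, nat_lit 3, nat_lit 1, nat_lit 4, nat_lit 1, nat_lit 4, nat_lit 3, nat_lit 5, nat_lit 2, nat_lit 3, nat_lit 1] else [nat_lit 3, nat_lit 4, nat_lit 5, nat_lit 1, nat_lit 2, nat_lit 1, nat_lit 4, nat_lit 2, nat_lit 3, nat_lit 4, nat_lit 5, nat_lit 1, nat_lit 2, nat_lit 1, nat_lit 4, nat_lit 2, nat_lit 3, nat_lit 4, nat_lit 5, nat_lit 1, nat_lit 2, nat_lit 1, nat_lit 4, nat_lit 2]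
def Wt_123_125 (j : ℕ) : List ℕ := bif Nat.blt j 124 then [nat_lit 5, nat_lit 2, nat_lit 0, nat_lit 4, nat_lit 0, nat_lit 1, nat_lit 5, nat_lit 2, nat_lit 0, nat_lit 4, nat_lit 0, nat_lit 1, nat_lit 5, nat_lit 2, nat_lit 0, nat_lit 4, nat_lit 0, nat_lit 1, nat_lit 5, nat_lit 2, nat_lit 0, nat_lit 4, nat_lit 0, nat_lit 1] else [nat_lit 5, nat_lit 0, nat_lit 3, nat_lit 2, nat_lit 3, nat_lit 5, nat_lit 4, nat_lit 0, nat_lit 5, nat_lit 0, nat_lit 3, nat_lit 2, nat_lit 3, nat_lit 5, nat_lit 4, nat_lit 0, nat_lit 5, nat_lit 0, nat_lit 3, nat_lit 2, nat_lit 3, nat_lit 5, nat_lit 4, nat_lit 0]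
def Wt_122_125 (j : ℕ) : List ℕ := bif Nat.blt j 123 then [nat_lit 63, nat_lit 3, nat_lit 4, nat_lit 3, nat_lit 4, nat_lit 3, nat_lit 4] else (Wt_123_125 j)
def Wt_120_125 (j : ℕ) : List ℕ := bif Nat.blt j 122 then (Wt_120_122 j) else (Wt_122_125 j)
def Wt_126_128 (j : ℕ) : List ℕ := bif Nat.blt j 127 then [nat_lit 63, nat_lit 5, nat_lit 3, nat_lit 5, nat_lit 3] else [nat_lit 3, nat_lit 2, nat_lit 1, nat_lit 0, nat_lit 5, nat_lit 4, nat_lit 3, nat_lit 2, nat_lit 1, nat_lit 0, nat_lit 5, nat_lit 4, nat_lit 3, nat_lit 2, nat_lit 1, nat_lit 0, nat_lit 5, nat_lit 4, nat_lit 3, nat_lit 2, nat_lit 1, nat_lit 0, nat_lit 5, nat_lit 4]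
def Wt_125_128 (j : ℕ) : List ℕ := bif Nat.blt j 126 then [nat_lit 63, nat_lit 1, nat_lit 0, nat_lit 4, nat_lit 5, nat_lit 0, nat_lit 2, nat_lit 1, nat_lit 5, nat_lit 1, nat_lit 0, nat_lit 4, nat_lit 5, nat_lit 0, nat_lit 2, nat_lit 1, nat_lit 5, nat_lit 1, nat_lit 0, nat_lit 4, nat_lit 5, nat_lit 0, nat_lit 2, nat_lit 1, nat_lit 5] else (Wt_126_128 j)
def Wt_129_131 (j : ℕ) : List ℕ := bif Nat.blt j 130 then [nat_lit 63, nat_lit 4, nat_lit 1, nat_lit 3, nat_lit 0, nat_lit 2, nat_lit 3, nat_lit 2, nat_lit 5, nat_lit 4, nat_lit 1, nat_lit 3, nat_lit 0, nat_lit 2, nat_lit 3, nat_lit 2, nat_lit 5, nat_lit 4, nat_lit 1, nat_lit 3, nat_lit 0, nat_lit 2, nat_lit 3, nat_lit 2, nat_lit 5] else [nat_lit 63, nat_lit 1, nat_lit 4, nat_lit 5, nat_lit 2, nat_lit 3, nat_lit 2, nat_lit 0, nat_lit 3, nat_lit 1, nat_lit 4, nat_lit 5, nat_lit 2, nat_lit 3, nat_lit 2, nat_lit 0, nat_lit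 3, nat_lit 1, nat_lit 4, nat_lit 5, nat_lit 2, nat_lit 3, nat_lit 2, nat_lit 0, nat_lit 3]
def Wt_128_131 (j : ℕ) : List ℕ := bif Nat.blt j 129 then [nat_lit 5, nat_lit 0, nat_lit 1, nat_lit 2, nat_lit 3, nat_lit 4, nat_lit 5, nat_lit 0, nat_lit 1, nat_lit 2, nat_lit 3, nat_lit 4, nat_lit 5, nat_lit 0, nat_lit 1, nat_lit 2, nat_lit 3, nat_lit 4, nat_lit 5, nat_lit 0, nat_lit 1, nat_lit 2, nat_lit 3, nat_lit 4] else (Wt_129_131 j)
def Wt_125_131 (j : ℕ) : List ℕ := bif Nat.blt j 128 then (Wt_125_128 j) else (Wt_128_131 j)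
def Wt_120_131 (j : ℕ) : List ℕ := bif Nat.blt j 125 then (Wt_120_125 j) else (Wt_125_131 j)
def Wt_109_131 (j : ℕ) : List ℕ := bif Nat.blt j 120 then (Wt_109_120 j) else (Wt_120_131 j)
def Wt_87_131 (j : ℕ) : List ℕ := bif Nat.blt j 109 then (Wt_87_109 j) else (Wt_109_131 j)
def Wt_131_133 (j : ℕ) : List ℕ := bif Nat.blt j 132 then [nat_lit 63, nat_lit 1, nat_lit 0, nat_lit 5, nat_lit 4, nat_lit 3, nat_lit 2, nat_lit 1, nat_lit 0, nat_lit 5, nat_lit 4, nat_lit 3, nat_lit 2, nat_lit 1, nat_lit 0, nat_lit 5, nat_lit 4, nat_lit 3, nat_lit 2, nat_lit 1, nat_lit 0, nat_lit 5, nat_lit 4, nat_lit 3, nat_lit 2] else [nat_lit 63, nat_lit 1, nat_lit 4, nat_lit 1, nat_lit 4, nat_lit 3, nat_lit 5, nat_lit 2, nat_lit 3, nat_lit 1, nat_lit 4, nat_lit 1, nat_lit 4, nat_lit 3, nat_lit 5, nat_lit 2, nat_lit 3, nat_lit 1, nat_lit 4, nat_lit 1, nat_lit 4, nat_lit 3, nat_lit 5, nat_lit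 2, nat_lit 3]
def Wt_134_136 (j : ℕ) : List ℕ := bif Nat.blt j 135 then [nat_lit 63, nat_lit 0, nat_lit 2, nat_lit 1, nat_lit 5, nat_lit 1, nat_lit 0, nat_lit 4, nat_lit 5, nat_lit 0, nat_lit 2, nat_lit 1, nat_lit 5, nat_lit 1, nat_lit 0, nat_lit 4, nat_lit 5, nat_lit 0, nat_lit 2, nat_lit 1, nat_lit 5, nat_lit 1, nat_lit 0, nat_lit 4, nat_lit 5] else [nat_lit 63, nat_lit 5, nat_lit 0, nat_lit 3, nat_lit 1, nat_lit 0, nat_lit 1, nat_lit 5, nat_lit 0, nat_lit 3, nat_lit 1, nat_lit 0, nat_lit 1, nat_lit 5, nat_lit 0, nat_lit 3, nat_lit 1, nat_lit 0, nat_lit 1, nat_lit 5, nat_lit 0, nat_lit 3, nat_lit 1, nat_lit 0, nat_lit 1]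
def Wt_133_136 (j : ℕ) : List ℕ := bif Nat.blt j 134 then [nat_lit 2, nat_lit 63, nat_lit 2, nat_lit 63] else (Wt_134_136 j)
def Wt_131_136 (j : ℕ) : List ℕ := bif Nat.blt j 133 then (Wt_131_133 j) else (Wt_133_136 j)
def Wt_137_139 (j : ℕ) : List ℕ := bif Nat.blt j 138 then [nat_lit 4, nat_lit 3, nat_lit 2, nat_lit 4, nat_lit 1, nat_lit 2, nat_lit 1, nat_lit 5, nat_lit 4, nat_lit 3, nat_lit 2, nat_lit 4, nat_lit 1, nat_lit 2, nat_lit 1, nat_lit 5, nat_lit 4, nat_lit 3, nat_lit 2, nat_lit 4, nat_lit 1, nat_lit 2, nat_lit 1, nat_lit 5] else [nat_lit 63, nat_lit 3, nat_lit 0, nat_lit 2, nat_lit 3, nat_lit 2, nat_lit 5, nat_lit 4, nat_lit 1, nat_lit 3, nat_lit 0, nat_lit 2, nat_lit 3, nat_lit 2, nat_lit 5, nat_lit 4, nat_lit 1, nat_lit 3, nat_lit 0, nat_lit 2, nat_lit 3, nat_lit 2, nat_lit 5, nat_lit 4, nat_lit 1]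
def Wt_136_139 (j : ℕ) : List ℕ := bif Nat.blt j 137 then [nat_lit 63, nat_lit 3, nat_lit 1, nat_lit 3, nat_lit 1, nat_lit 3, nat_lit 1] else (Wt_137_139 j)
def Wt_140_142 (j : ℕ) : List ℕ := bif Nat.blt j 141 then [nat_lit 63, nat_lit 4, nat_lit 3, nat_lit 2, nat_lit 4, nat_lit 1, nat_lit 2, nat_lit 1, nat_lit 5, nat_lit 4, nat_lit 3, nat_lit 2, nat_lit 4, nat_lit 1, nat_lit 2, nat_lit 1, nat_lit 5, nat_lit 4, nat_lit 3, nat_lit 2, nat_lit 4, nat_lit 1, nat_lit 2, nat_lit 1, nat_lit 5] else [nat_lit 0, nat_lit 1, nat_lit 2, nat_lit 3, nat_lit 4, nat_lit 5, nat_lit 0, nat_lit 1, nat_lit 2, nat_lit 3, nat_lit 4, nat_lit 5, nat_lit 0, nat_lit 1, nat_lit 2, nat_lit 3, nat_lit 4, nat_lit 5, nat_lit 0, nat_lit 1, nat_lit 2, nat_lit 3, nat_lit 4, nat_lit 5]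
def Wt_139_142 (j : ℕ) : List ℕ := bif Nat.blt j 140 then [nat_lit 63, nat_lit 4, nat_lit 0, nat_lit 4, nat_lit 0] else (Wt_140_142 j)
def Wt_136_142 (j : ℕ) : List ℕ := bif Nat.blt j 139 then (Wt_136_139 j) else (Wt_139_142 j)
def Wt_131_142 (j : ℕ) : List ℕ := bif Nat.blt j 136 then (Wt_131_136 j) else (Wt_136_142 j)
def Wt_142_144 (j : ℕ) : List ℕ := bif Nat.blt j 143 then [nat_lit 63, nat_lit 5, nat_lit 3, nat_lit 2, nat_lit 4, nat_lit 3, nat_lit 4, nat_lit 3, nat_lit 5, nat_lit 3, nat_lit 2, nat_lit 4, nat_lit 3, nat_lit 4, nat_lit 3, nat_lit 5, nat_lit 3, nat_lit 2, nat_lit 4, nat_lit 3, nat_lit 4, nat_lit 3, nat_lit 5, nat_lit 3, nat_lit 2, nat_lit 4, nat_lit 3, nat_lit 4, nat_lit 3] else [nat_lit 63, nat_lit 5, nat_lit 4, nat_lit 5, nat_lit 4, nat_lit 3, nat_lit 0, nat_lit 5, nat_lit 4, nat_lit 5, nat_lit 4, nat_lit 3, nat_lit 0, nat_lit 5, nat_lit 4, nat_lit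 5, nat_lit 4, nat_lit 3, nat_lit 0, nat_lit 5, nat_lit 4, nat_lit 5, nat_lit 4, nat_lit 3, nat_lit 0]
def Wt_145_147 (j : ℕ) : List ℕ := bif Nat.blt j 146 then [nat_lit 3, nat_lit 2, nat_lit 3, nat_lit 5, nat_lit 4, nat_lit 0, nat_lit 5, nat_lit 0, nat_lit 3, nat_lit 2, nat_lit 3, nat_lit 5, nat_lit 4, nat_lit 0, nat_lit 5, nat_lit 0, nat_lit 3, nat_lit 2, nat_lit 3, nat_lit 5, nat_lit 4, nat_lit 0, nat_lit 5, nat_lit 0] else [nat_lit 63, nat_lit 1, nat_lit 0, nat_lit 1, nat_lit 3, nat_lit 0, nat_lit 5, nat_lit 1, nat_lit 0, nat_lit 1, nat_lit 3, nat_lit 0, nat_lit 5, nat_lit 1, nat_lit 0, nat_lit 1, nat_lit 3, nat_lit 0, nat_lit 5, nat_lit 1, nat_lit 0, nat_lit 1, nat_lit 3, nat_lit 0, nat_lit 5]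
def Wt_144_147 (j : ℕ) : List ℕ := bif Nat.blt j 145 then [nat_lit 2, nat_lit 0, nat_lit 4, nat_lit 0, nat_lit 1, nat_lit 5, nat_lit 2, nat_lit 0, nat_lit 4, nat_lit 0, nat_lit 1, nat_lit 5, nat_lit 2, nat_lit 0, nat_lit 4, nat_lit 0, nat_lit 1, nat_lit 5, nat_lit 2, nat_lit 0, nat_lit 4, nat_lit 0, nat_lit 1, nat_lit 5] else (Wt_145_147 j)
def Wt_142_147 (j : ℕ) : List ℕ := bif Nat.blt j 144 then (Wt_142_144 j) else (Wt_144_147 j)
def Wt_148_150 (j : ℕ) : List ℕ := bif Nat.blt j 149 then [nat_lit 63, nat_lit 5, nat_lit 3, nat_lit 1, nat_lit 4, nat_lit 0, nat_lit 4, nat_lit 5, nat_lit 0, nat_lit 5, nat_lit 3, nat_lit 1, nat_lit 4, nat_lit 0, nat_lit 4, nat_lit 5, nat_lit 0, nat_lit 5, nat_lit 3, nat_lit 1, nat_lit 4, nat_lit 0, nat_lit 4, nat_lit 5, nat_lit 0] else [nat_lit 63, nat_lit 0, nat_lit 4, nat_lit 5, nat_lit 0, nat_lit 5, nat_lit 3, nat_lit 1, nat_lit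 4, nat_lit 0, nat_lit 4, nat_lit 5, nat_lit 0, nat_lit 5, nat_lit 3, nat_lit 1, nat_lit 4, nat_lit 0, nat_lit 4, nat_lit 5, nat_lit 0, nat_lit 5, nat_lit 3, nat_lit 1, nat_lit 4]
def Wt_147_150 (j : ℕ) : List ℕ := bif Nat.blt j 148 then [nat_lit 63, nat_lit 0, nat_lit 3, nat_lit 1, nat_lit 0, nat_lit 1, nat_lit 5, nat_lit 0, nat_lit 3, nat_lit 1, nat_lit 0, nat_lit 1, nat_lit 5, nat_lit 0, nat_lit 3, nat_lit 1, nat_lit 0, nat_lit 1, nat_lit 5, nat_lit 0, nat_lit 3, nat_lit 1, nat_lit 0, nat_lit 1, nat_lit 5] else (Wt_148_150 j)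
def Wt_151_153 (j : ℕ) : List ℕ := bif Nat.blt j 152 then [nat_lit 63, nat_lit 1, nat_lit 2, nat_lit 1, nat_lit 4, nat_lit 2, nat_lit 3, nat_lit 4, nat_lit 5, nat_lit 1, nat_lit 2, nat_lit 1, nat_lit 4, nat_lit 2, nat_lit 3, nat_lit 4, nat_lit 5, nat_lit 1, nat_lit 2, nat_lit 1, nat_lit 4, nat_lit 2, nat_lit 3, nat_lit 4, nat_lit 5] else [nat_lit 63, nat_lit 3, nat_lit 63, nat_lit 3, nat_lit 63]
def Wt_150_153 (j : ℕ) : List ℕ := bif Nat.blt j 151 then [nat_lit 63, nat_lit 4, nat_lit 5, nat_lit 1, nat_lit 2, nat_lit 1, nat_lit 4, nat_lit 2, nat_lit 3, nat_lit 4, nat_lit 5, nat_lit 1, nat_lit 2, nat_lit 1, nat_lit 4, nat_lit 2, nat_lit 3, nat_lit 4, nat_lit 5, nat_lit 1, nat_lit 2, nat_lit 1, nat_lit 4, nat_lit 2, nat_lit 3] else (Wt_151_153 j)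
def Wt_147_153 (j : ℕ) : List ℕ := bif Nat.blt j 150 then (Wt_147_150 j) else (Wt_150_153 j)
def Wt_142_153 (j : ℕ) : List ℕ := bif Nat.blt j 147 then (Wt_142_147 j) else (Wt_147_153 j)
def Wt_131_153 (j : ℕ) : List ℕ := bif Nat.blt j 142 then (Wt_131_142 j) else (Wt_142_153 j)
def Wt_153_155 (j : ℕ) : List ℕ := bif Nat.blt j 154 then [nat_lit 63, nat_lit 5, nat_lit 0, nat_lit 5, nat_lit 4, nat_lit 0, nat_lit 4, nat_lit 1, nat_lit 3, nat_lit 5, nat_lit 0, nat_lit 5, nat_lit 4, nat_lit 0, nat_lit 4, nat_lit 1, nat_lit 3, nat_lit 5, nat_lit 0, nat_lit 5, nat_lit 4, nat_lit 0, nat_lit 4, nat_lit 1, nat_lit 3] else [nat_lit 63, nat_lit 3, nat_lit 0, nat_lit 5, nat_lit 1, nat_lit 0, nat_lit 1, nat_lit 3, nat_lit 0, nat_lit 5, nat_lit 1, nat_lit 0, nat_lit 1, nat_lit 3, nat_lit 0, nat_lit 5, nat_lit 1, nat_lit 0, nat_lit 1, nat_lit 3, nat_lit 0, nat_lit 5, nat_lit 1,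 nat_lit 0, nat_lit 1]
def Wt_156_158 (j : ℕ) : List ℕ := bif Nat.blt j 157 then [nat_lit 4, nat_lit 5, nat_lit 0, nat_lit 2, nat_lit 1, nat_lit 5, nat_lit 1, nat_lit 0, nat_lit 4, nat_lit 5, nat_lit 0, nat_lit 2, nat_lit 1, nat_lit 5, nat_lit 1, nat_lit 0, nat_lit 4, nat_lit 5, nat_lit 0, nat_lit 2, nat_lit 1, nat_lit 5, nat_lit 1, nat_lit 0] else [nat_lit 63, nat_lit 5, nat_lit 1, nat_lit 2, nat_lit 1, nat_lit 4, nat_lit 2, nat_lit 3, nat_lit 4, nat_lit 5, nat_lit 1, nat_lit 2, nat_lit 1, nat_lit 4, nat_lit 2, nat_lit 3, nat_lit 4, nat_lit 5, nat_lit 1, nat_lit 2, nat_lit 1, nat_lit 4, nat_lit 2, nat_lit 3, nat_lit 4]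
def Wt_155_158 (j : ℕ) : List ℕ := bif Nat.blt j 156 then [nat_lit 63, nat_lit 1, nat_lit 3, nat_lit 0, nat_lit 2, nat_lit 3, nat_lit 2, nat_lit 5, nat_lit 4, nat_lit 1, nat_lit 3, nat_lit 0, nat_lit 2, nat_lit 3, nat_lit 2, nat_lit 5, nat_lit 4, nat_lit 1, nat_lit 3, nat_lit 0, nat_lit 2, nat_lit 3, nat_lit 2, nat_lit 5, nat_lit 4] else (Wt_156_158 j)
def Wt_153_158 (j : ℕ) : List ℕ := bif Nat.blt j 155 then (Wt_153_155 j) else (Wt_155_158 j)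
def Wt_159_161 (j : ℕ) : List ℕ := bif Nat.blt j 160 then [nat_lit 63, nat_lit 5, nat_lit 1, nat_lit 0, nat_lit 4, nat_lit 5, nat_lit 0, nat_lit 2, nat_lit 1, nat_lit 5, nat_lit 1, nat_lit 0, nat_lit 4, nat_lit 5, nat_lit 0, nat_lit 2, nat_lit 1, nat_lit 5, nat_lit 1, nat_lit 0, nat_lit 4, nat_lit 5, nat_lit 0, nat_lit 2, nat_lit 1] else [nat_lit 63, nat_lit 0, nat_lit 5, nat_lit 3, nat_lit 1, nat_lit 4, nat_lit 0, nat_lit 4, nat_lit 5, nat_lit 0, nat_lit 5, nat_lit 3, nat_lit 1, nat_lit 4, nat_lit 0, nat_lit 4, nat_lit 5, nat_lit 0, nat_lit 5, nat_lit 3, nat_lit 1, nat_lit 4, nat_lit 0, nat_lit 4, nat_lit 5]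
def Wt_158_161 (j : ℕ) : List ℕ := bif Nat.blt j 159 then [nat_lit 63, nat_lit 0, nat_lit 3, nat_lit 4, nat_lit 5, nat_lit 4, nat_lit 5, nat_lit 0, nat_lit 3, nat_lit 4, nat_lit 5, nat_lit 4, nat_lit 5, nat_lit 0, nat_lit 3, nat_lit 4, nat_lit 5, nat_lit 4, nat_lit 5, nat_lit 0, nat_lit 3, nat_lit 4, nat_lit 5, nat_lit 4, nat_lit 5] else (Wt_159_161 j)
def Wt_162_164 (j : ℕ) : List ℕ := bif Nat.blt j 163 then [nat_lit 63, nat_lit 2, nat_lit 4, nat_lit 3, nat_lit 4, nat_lit 3, nat_lit 5, nat_lit 3, nat_lit 2, nat_lit 4, nat_lit 3, nat_lit 4, nat_lit 3, nat_lit 5, nat_lit 3, nat_lit 2, nat_lit 4, nat_lit 3, nat_lit 4, nat_lit 3, nat_lit 5, nat_lit 3, nat_lit 2, nat_lit 4, nat_lit 3, nat_lit 4, nat_lit 3, nat_lit 5, nat_lit 3] else [nat_lit 63, nat_lit 4, nat_lit 1, nat_lit 4, nat_lit 1]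
def Wt_161_164 (j : ℕ) : List ℕ := bif Nat.blt j 162 then [nat_lit 63, nat_lit 0, nat_lit 3, nat_lit 2, nat_lit 3, nat_lit 1, nat_lit 5, nat_lit 1, nat_lit 0, nat_lit 3, nat_lit 2, nat_lit 3, nat_lit 1, nat_lit 5, nat_lit 1, nat_lit 0, nat_lit 3, nat_lit 2, nat_lit 3, nat_lit 1, nat_lit 5, nat_lit 1, nat_lit 0, nat_lit 3, nat_lit 2, nat_lit 3, nat_lit 1, nat_lit 5, nat_lit 1] else (Wt_162_164 j)
def Wt_158_164 (j : ℕ) : List ℕ := bif Nat.blt j 161 then (Wt_158_161 j) else (Wt_161_164 j)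
def Wt_153_164 (j : ℕ) : List ℕ := bif Nat.blt j 158 then (Wt_153_158 j) else (Wt_158_164 j)
def Wt_164_166 (j : ℕ) : List ℕ := bif Nat.blt j 165 then [nat_lit 1, nat_lit 5, nat_lit 2, nat_lit 0, nat_lit 4, nat_lit 0, nat_lit 1, nat_lit 5, nat_lit 2, nat_lit 0, nat_lit 4, nat_lit 0, nat_lit 1, nat_lit 5, nat_lit 2, nat_lit 0, nat_lit 4, nat_lit 0, nat_lit 1, nat_lit 5, nat_lit 2, nat_lit 0, nat_lit 4, nat_lit 0] else [nat_lit 2, nat_lit 3, nat_lit 0, nat_lit 1, nat_lit 5, nat_lit 1, nat_lit 3, nat_lit 2, nat_lit 3, nat_lit 0, nat_lit 1, nat_lit 5, nat_lit 1, nat_lit 3, nat_lit 2, nat_lit 3, nat_lit 0, nat_lit 1, nat_lit 5, nat_lit 1, nat_lit 3, nat_lit 2, nat_lit 3, nat_lit 0, nat_lit 1, nat_lit 5, nat_lit 1, nat_lit 3]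
def Wt_167_169 (j : ℕ) : List ℕ := bif Nat.blt j 168 then [nat_lit 1, nat_lit 4, nat_lit 3, nat_lit 5, nat_lit 2, nat_lit 3, nat_lit 1, nat_lit 4, nat_lit 1, nat_lit 4, nat_lit 3, nat_lit 5, nat_lit 2, nat_lit 3, nat_lit 1, nat_lit 4, nat_lit 1, nat_lit 4, nat_lit 3, nat_lit 5, nat_lit 2, nat_lit 3, nat_lit 1, nat_lit 4] else [nat_lit 4, nat_lit 5, nat_lit 3, nat_lit 5, nat_lit 0, nat_lit 4, nat_lit 0, nat_lit 5, nat_lit 4, nat_lit 5, nat_lit 3, nat_lit 5, nat_lit 0, nat_lit 4, nat_lit 0, nat_lit 5, nat_lit 4, nat_lit 5, nat_lit 3, nat_lit 5, nat_lit 0, nat_lit 4, nat_lit 0, nat_lit 5]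
def Wt_166_169 (j : ℕ) : List ℕ := bif Nat.blt j 167 then [nat_lit 3, nat_lit 4, nat_lit 3, nat_lit 5, nat_lit 3, nat_lit 2, nat_lit 4, nat_lit 3, nat_lit 4, nat_lit 3, nat_lit 5, nat_lit 3, nat_lit 2, nat_lit 4, nat_lit 3, nat_lit 4, nat_lit 3, nat_lit 5, nat_lit 3, nat_lit 2, nat_lit 4, nat_lit 3, nat_lit 4, nat_lit 3, nat_lit 5, nat_lit 3, nat_lit 2, nat_lit 4] else (Wt_167_169 j)
def Wt_164_169 (j : ℕ) : List ℕ := bif Nat.blt j 166 then (Wt_164_166 j) else (Wt_166_169 j)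
def Wt_170_172 (j : ℕ) : List ℕ := bif Nat.blt j 171 then [nat_lit 63, nat_lit 1, nat_lit 0, nat_lit 1, nat_lit 0, nat_lit 1, nat_lit 0] else [nat_lit 4, nat_lit 0, nat_lit 1, nat_lit 5, nat_lit 1, nat_lit 2, nat_lit 0, nat_lit 5, nat_lit 4, nat_lit 0, nat_lit 1, nat_lit 5, nat_lit 1, nat_lit 2, nat_lit 0, nat_lit 5, nat_lit 4, nat_lit 0, nat_lit 1, nat_lit 5, nat_lit 1, nat_lit 2, nat_lit 0, nat_lit 5]
def Wt_169_172 (j : ℕ) : List ℕ := bif Nat.blt j 170 then [nat_lit 63, nat_lit 0, nat_lit 1, nat_lit 2, nat_lit 3, nat_lit 4, nat_lit 5, nat_lit 0, nat_lit 1, nat_lit 2, nat_lit 3, nat_lit 4, nat_lit 5, nat_lit 0, nat_lit 1, nat_lit 2, nat_lit 3, nat_lit 4, nat_lit 5, nat_lit 0, nat_lit 1, nat_lit 2, nat_lit 3, nat_lit 4, nat_lit 5] else (Wt_170_172 j)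
def Wt_173_175 (j : ℕ) : List ℕ := bif Nat.blt j 174 then [nat_lit 3, nat_lit 4, nat_lit 3, nat_lit 5, nat_lit 3, nat_lit 4, nat_lit 5, nat_lit 3, nat_lit 4, nat_lit 3, nat_lit 5, nat_lit 3, nat_lit 4, nat_lit 5, nat_lit 3, nat_lit 4, nat_lit 3, nat_lit 5, nat_lit 3, nat_lit 4, nat_lit 5, nat_lit 3, nat_lit 4, nat_lit 3, nat_lit 5, nat_lit 3, nat_lit 4, nat_lit 5] else [nat_lit 4, nat_lit 5, nat_lit 0, nat_lit 3, nat_lit 4, nat_lit 5, nat_lit 4, nat_lit 5, nat_lit 0, nat_lit 3, nat_lit 4, nat_lit 5, nat_lit 4, nat_lit 5, nat_lit 0, nat_lit 3, nat_lit 4, nat_lit 5, nat_lit 4, nat_lit 5, nat_lit 0, nat_lit 3, nat_lit 4, nat_lit 5]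
def Wt_172_175 (j : ℕ) : List ℕ := bif Nat.blt j 173 then [nat_lit 3, nat_lit 0, nat_lit 2, nat_lit 3, nat_lit 2, nat_lit 5, nat_lit 4, nat_lit 1, nat_lit 3, nat_lit 0, nat_lit 2, nat_lit 3, nat_lit 2, nat_lit 5, nat_lit 4, nat_lit 1, nat_lit 3, nat_lit 0, nat_lit 2, nat_lit 3, nat_lit 2, nat_lit 5, nat_lit 4, nat_lit 1] else (Wt_173_175 j)
def Wt_169_175 (j : ℕ) : List ℕ := bif Nat.blt j 172 then (Wt_169_172 j) else (Wt_172_175 j)
def Wt_164_175 (j : ℕ) : List ℕ := bif Nat.blt j 169 then (Wt_164_169 j) else (Wt_169_175 j)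
def Wt_153_175 (j : ℕ) : List ℕ := bif Nat.blt j 164 then (Wt_153_164 j) else (Wt_164_175 j)
def Wt_131_175 (j : ℕ) : List ℕ := bif Nat.blt j 153 then (Wt_131_153 j) else (Wt_153_175 j)
def Wt_87_175 (j : ℕ) : List ℕ := bif Nat.blt j 131 then (Wt_87_131 j) else (Wt_131_175 j)
def Wt_0_175 (j : ℕ) : List ℕ := bif Nat.blt j 87 then (Wt_0_87 j) else (Wt_87_175 j)
def Wt_175_177 (j : ℕ) : List ℕ := bif Nat.blt j 176 then [nat_lit 0, nat_lit 3, nat_lit 4, nat_lit 5, nat_lit 4, nat_lit 5, nat_lit 0, nat_lit 3, nat_lit 4, nat_lit 5, nat_lit 4, nat_lit 5, nat_lit 0, nat_lit 3, nat_lit 4, nat_lit 5, nat_lit 4, nat_lit 5, nat_lit 0, nat_lit 3, nat_lit 4, nat_lit 5, nat_lit 4, nat_lit 5] else [nat_lit 0, nat_lit 6, nat_lit 5, nat_lit 6, nat_lit 4, nat_lit 2, nat_lit 6, nat_lit 3, nat_lit 1, nat_lit 5, nat_lit 0, nat_lit 6, nat_lit 5, nat_lit 6, nat_lit 4, nat_lit 2, nat_lit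 6, nat_lit 3, nat_lit 1, nat_lit 5, nat_lit 0, nat_lit 6, nat_lit 5, nat_lit 6, nat_lit 4, nat_lit 2, nat_lit 6, nat_lit 3, nat_lit 1, nat_lit 5, nat_lit 0, nat_lit 6, nat_lit 5, nat_lit 6, nat_lit 4, nat_lit 2, nat_lit 6, nat_lit 3, nat_lit 1, nat_lit 5, nat_lit 0, nat_lit 6, nat_lit 5, nat_lit 6, nat_lit 4, nat_lit 2, nat_lit 6, nat_lit 3, nat_lit 1, nat_lit 5]
def Wt_178_180 (j : ℕ) : List ℕ := bif Nat.blt j 179 then [nat_lit 63, nat_lit 0, nat_lit 3, nat_lit 2, nat_lit 3, nat_lit 5, nat_lit 4, nat_lit 0, nat_lit 5, nat_lit 0, nat_lit 3, nat_lit 2, nat_lit 3, nat_lit 5, nat_lit 4, nat_lit 0, nat_lit 5, nat_lit 0, nat_lit 3, nat_lit 2, nat_lit 3, nat_lit 5, nat_lit 4, nat_lit 0, nat_lit 5] else [nat_lit 63, nat_lit 2, nat_lit 3, nat_lit 2, nat_lit 3]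
def Wt_177_180 (j : ℕ) : List ℕ := bif Nat.blt j 178 then [nat_lit 63, nat_lit 2, nat_lit 3, nat_lit 2, nat_lit 0, nat_lit 3, nat_lit 1, nat_lit 4, nat_lit 5, nat_lit 2, nat_lit 3, nat_lit 2, nat_lit 0, nat_lit 3, nat_lit 1, nat_lit 4, nat_lit 5, nat_lit 2, nat_lit 3, nat_lit 2, nat_lit 0, nat_lit 3, nat_lit 1, nat_lit 4, nat_lit 5] else (Wt_178_180 j)
def Wt_175_180 (j : ℕ) : List ℕ := bif Nat.blt j 177 then (Wt_175_177 j) else (Wt_177_180 j)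
def Wt_181_183 (j : ℕ) : List ℕ := bif Nat.blt j 182 then [nat_lit 6, nat_lit 5, nat_lit 6, nat_lit 4, nat_lit 2, nat_lit 6, nat_lit 3, nat_lit 1, nat_lit 5, nat_lit 0, nat_lit 6, nat_lit 5, nat_lit 6, nat_lit 4, nat_lit 2, nat_lit 6, nat_lit 3, nat_lit 1, nat_lit 5, nat_lit 0, nat_lit 6, nat_lit 5, nat_lit 6, nat_lit 4, nat_lit 2, nat_lit 6, nat_lit 3, nat_lit 1, nat_lit 5, nat_lit 0, nat_lit 6, nat_lit 5, nat_lit 6, nat_lit 4, nat_lit 2, nat_lit 6, nat_lit 3, nat_lit 1, nat_lit 5, nat_lit 0, nat_lit 6, nat_lit 5, nat_lit 6, nat_lit 4, nat_lit 2, nat_lit 6, nat_lit 3, nat_lit 1, nat_lit 5, nat_lit 0] else [nat_lit 5, nat_lit 3, nat_lit 4, nat_lit 1, nat_lit 4, nat_lit 1, nat_lit 3, nat_lit 2, nat_lit 5, nat_lit 3, nat_lit 4, nat_lit 1, nat_lit 4, nat_lit 1, nat_lit 3, nat_lit 2, nat_lit 5, nat_lit 3, nat_lit 4, nat_lit 1, nat_lit 4, nat_lit 1, nat_lit 3, nat_lit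 2]
def Wt_180_183 (j : ℕ) : List ℕ := bif Nat.blt j 181 then [nat_lit 1, nat_lit 4, nat_lit 5, nat_lit 2, nat_lit 3, nat_lit 2, nat_lit 0, nat_lit 3, nat_lit 1, nat_lit 4, nat_lit 5, nat_lit 2, nat_lit 3, nat_lit 2, nat_lit 0, nat_lit 3, nat_lit 1, nat_lit 4, nat_lit 5, nat_lit 2, nat_lit 3, nat_lit 2, nat_lit 0, nat_lit 3] else (Wt_181_183 j)
def Wt_184_186 (j : ℕ) : List ℕ := bif Nat.blt j 185 then [nat_lit 1, nat_lit 0, nat_lit 3, nat_lit 2, nat_lit 3, nat_lit 1, nat_lit 5, nat_lit 1, nat_lit 0, nat_lit 3, nat_lit 2, nat_lit 3, nat_lit 1, nat_lit 5, nat_lit 1, nat_lit 0, nat_lit 3, nat_lit 2, nat_lit 3, nat_lit 1, nat_lit 5, nat_lit 1, nat_lit 0, nat_lit 3, nat_lit 2, nat_lit 3, nat_lit 1, nat_lit 5] else [nat_lit 63, nat_lit 1, nat_lit 4, nat_lit 0, nat_lit 4, nat_lit 5, nat_lit 0, nat_lit 5, nat_lit 3, nat_lit 1, nat_lit 4, nat_lit 0, nat_lit 4, nat_lit 5,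 nat_lit 0, nat_lit 5, nat_lit 3, nat_lit 1, nat_lit 4, nat_lit 0, nat_lit 4, nat_lit 5, nat_lit 0, nat_lit 5, nat_lit 3]
def Wt_183_186 (j : ℕ) : List ℕ := bif Nat.blt j 184 then [nat_lit 63, nat_lit 1, nat_lit 5, nat_lit 1, nat_lit 3, nat_lit 2, nat_lit 3, nat_lit 0, nat_lit 1, nat_lit 5, nat_lit 1, nat_lit 3, nat_lit 2, nat_lit 3, nat_lit 0, nat_lit 1, nat_lit 5, nat_lit 1, nat_lit 3, nat_lit 2, nat_lit 3, nat_lit 0, nat_lit 1, nat_lit 5, nat_lit 1, nat_lit 3, nat_lit 2, nat_lit 3, nat_lit 0] else (Wt_184_186 j)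
def Wt_180_186 (j : ℕ) : List ℕ := bif Nat.blt j 183 then (Wt_180_183 j) else (Wt_183_186 j)
def Wt_175_186 (j : ℕ) : List ℕ := bif Nat.blt j 180 then (Wt_175_180 j) else (Wt_180_186 j)
def Wt_186_188 (j : ℕ) : List ℕ := bif Nat.blt j 187 then [nat_lit 5, nat_lit 1, nat_lit 0, nat_lit 1, nat_lit 3, nat_lit 0, nat_lit 5, nat_lit 1, nat_lit 0, nat_lit 1, nat_lit 3, nat_lit 0, nat_lit 5, nat_lit 1, nat_lit 0, nat_lit 1, nat_lit 3, nat_lit 0, nat_lit 5, nat_lit 1, nat_lit 0, nat_lit 1, nat_lit 3, nat_lit 0] else [nat_lit 63, nat_lit 5, nat_lit 0, nat_lit 4, nat_lit 0, nat_lit 5, nat_lit 3, nat_lit 5, nat_lit 4, nat_lit 5, nat_lit 0, nat_lit 4, nat_lit 0, nat_lit 5, nat_lit 3, nat_lit 5, nat_lit 4, nat_lit 5, nat_lit 0, nat_lit 4, nat_lit 0, nat_lit 5, nat_lit 3, nat_lit 5, nat_lit 4]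
def Wt_189_191 (j : ℕ) : List ℕ := bif Nat.blt j 190 then [nat_lit 63, nat_lit 0, nat_lit 2, nat_lit 3, nat_lit 2, nat_lit 5, nat_lit 4, nat_lit 1, nat_lit 3, nat_lit 0, nat_lit 2, nat_lit 3, nat_lit 2, nat_lit 5, nat_lit 4, nat_lit 1, nat_lit 3, nat_lit 0, nat_lit 2, nat_lit 3, nat_lit 2, nat_lit 5, nat_lit 4, nat_lit 1, nat_lit 3] else [nat_lit 63, nat_lit 5, nat_lit 1, nat_lit 0, nat_lit 1, nat_lit 3, nat_lit 0, nat_lit 5, nat_lit 1, nat_lit 0, nat_lit 1, nat_lit 3, nat_lit 0, nat_lit 5, nat_lit 1, nat_lit 0, nat_lit 1, nat_lit 3, nat_lit 0, nat_lit 5, nat_lit 1, nat_lit 0, nat_lit 1, nat_lit 3, nat_lit 0]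
def Wt_188_191 (j : ℕ) : List ℕ := bif Nat.blt j 189 then [nat_lit 63, nat_lit 4, nat_lit 3, nat_lit 5, nat_lit 3, nat_lit 4, nat_lit 3, nat_lit 5, nat_lit 4, nat_lit 3, nat_lit 5, nat_lit 3, nat_lit 4, nat_lit 3, nat_lit 5, nat_lit 4, nat_lit 3, nat_lit 5, nat_lit 3, nat_lit 4, nat_lit 3, nat_lit 5, nat_lit 4, nat_lit 3, nat_lit 5, nat_lit 3, nat_lit 4, nat_lit 3, nat_lit 5] else (Wt_189_191 j)
def Wt_186_191 (j : ℕ) : List ℕ := bif Nat.blt j 188 then (Wt_186_188 j) else (Wt_188_191 j)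
def Wt_192_194 (j : ℕ) : List ℕ := bif Nat.blt j 193 then [nat_lit 63, nat_lit 3, nat_lit 2, nat_lit 3, nat_lit 1, nat_lit 5, nat_lit 1, nat_lit 0, nat_lit 3, nat_lit 2, nat_lit 3, nat_lit 1, nat_lit 5, nat_lit 1, nat_lit 0, nat_lit 3, nat_lit 2, nat_lit 3, nat_lit 1, nat_lit 5, nat_lit 1, nat_lit 0, nat_lit 3, nat_lit 2, nat_lit 3, nat_lit 1, nat_lit 5, nat_lit 1, nat_lit 0] else [nat_lit 63, nat_lit 4, nat_lit 5, nat_lit 4, nat_lit 3, nat_lit 0, nat_lit 5, nat_lit 4, nat_lit 5, nat_lit 4, nat_lit 3, nat_lit 0, nat_lit 5, nat_lit 4, nat_lit 5, nat_lit 4, nat_lit 3, nat_lit 0, nat_lit 5, nat_lit 4, nat_lit 5, nat_lit 4, nat_lit 3, nat_lit 0, nat_lit 5]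
def Wt_191_194 (j : ℕ) : List ℕ := bif Nat.blt j 192 then [nat_lit 6, nat_lit 2, nat_lit 4, nat_lit 6, nat_lit 5, nat_lit 6, nat_lit 0, nat_lit 5, nat_lit 1, nat_lit 3, nat_lit 6, nat_lit 2, nat_lit 4, nat_lit 6, nat_lit 5, nat_lit 6, nat_lit 0, nat_lit 5, nat_lit 1, nat_lit 3, nat_lit 6, nat_lit 2, nat_lit 4, nat_lit 6, nat_lit 5, nat_lit 6, nat_lit 0, nat_lit 5, nat_lit 1, nat_lit 3, nat_lit 6, nat_lit 2, nat_lit 4, nat_lit 6, nat_lit 5, nat_lit 6, nat_lit 0, nat_lit 5, nat_lit 1, nat_lit 3, nat_lit 6, nat_lit 2, nat_lit 4, nat_lit 6, nat_lit 5, nat_lit 6, nat_lit 0, nat_lit 5, nat_lit 1, nat_lit 3] else (Wt_192_194 j)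
def Wt_195_197 (j : ℕ) : List ℕ := bif Nat.blt j 196 then [nat_lit 63, nat_lit 63, nat_lit 4, nat_lit 63, nat_lit 4] else [nat_lit 63, nat_lit 63, nat_lit 6, nat_lit 63, nat_lit 6]
def Wt_194_197 (j : ℕ) : List ℕ := bif Nat.blt j 195 then [nat_lit 6, nat_lit 6, nat_lit 63] else (Wt_195_197 j)
def Wt_191_197 (j : ℕ) : List ℕ := bif Nat.blt j 194 then (Wt_191_194 j) else (Wt_194_197 j)
def Wt_186_197 (j : ℕ) : List ℕ := bif Nat.blt j 191 then (Wt_186_191 j) else (Wt_191_197 j)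
def Wt_175_197 (j : ℕ) : List ℕ := bif Nat.blt j 186 then (Wt_175_186 j) else (Wt_186_197 j)
def Wt_197_199 (j : ℕ) : List ℕ := bif Nat.blt j 198 then [nat_lit 0, nat_lit 5, nat_lit 0, nat_lit 3, nat_lit 2, nat_lit 3, nat_lit 5, nat_lit 4, nat_lit 0, nat_lit 5, nat_lit 0, nat_lit 3, nat_lit 2, nat_lit 3, nat_lit 5, nat_lit 4, nat_lit 0, nat_lit 5, nat_lit 0, nat_lit 3, nat_lit 2, nat_lit 3, nat_lit 5, nat_lit 4] else [nat_lit 63, nat_lit 0, nat_lit 4, nat_lit 5, nat_lit 0, nat_lit 2, nat_lit 1, nat_lit 5, nat_lit 1, nat_lit 0, nat_lit 4, nat_lit 5, nat_lit 0, nat_lit 2, nat_lit 1, nat_lit 5, nat_lit 1, nat_lit 0, nat_lit 4, nat_lit 5, nat_lit 0, nat_lit 2, nat_lit 1, nat_lit 5, nat_lit 1]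
def Wt_200_202 (j : ℕ) : List ℕ := bif Nat.blt j 201 then [nat_lit 4, nat_lit 1, nat_lit 3, nat_lit 0, nat_lit 2, nat_lit 3, nat_lit 2, nat_lit 5, nat_lit 4, nat_lit 1, nat_lit 3, nat_lit 0, nat_lit 2, nat_lit 3, nat_lit 2, nat_lit 5, nat_lit 4, nat_lit 1, nat_lit 3, nat_lit 0, nat_lit 2, nat_lit 3, nat_lit 2, nat_lit 5] else [nat_lit 63, nat_lit 1, nat_lit 4, nat_lit 1, nat_lit 4]
def Wt_199_202 (j : ℕ) : List ℕ := bif Nat.blt j 200 then [nat_lit 63, nat_lit 0, nat_lit 1, nat_lit 3, nat_lit 0, nat_lit 5, nat_lit 1, nat_lit 0, nat_lit 1, nat_lit 3, nat_lit 0, nat_lit 5, nat_lit 1, nat_lit 0, nat_lit 1, nat_lit 3, nat_lit 0, nat_lit 5, nat_lit 1, nat_lit 0, nat_lit 1, nat_lit 3, nat_lit 0, nat_lit 5, nat_lit 1] else (Wt_200_202 j)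
def Wt_197_202 (j : ℕ) : List ℕ := bif Nat.blt j 199 then (Wt_197_199 j) else (Wt_199_202 j)
def Wt_203_205 (j : ℕ) : List ℕ := bif Nat.blt j 204 then [nat_lit 63, nat_lit 1, nat_lit 2, nat_lit 0, nat_lit 5, nat_lit 4, nat_lit 0, nat_lit 1, nat_lit 5, nat_lit 1, nat_lit 2, nat_lit 0, nat_lit 5, nat_lit 4, nat_lit 0, nat_lit 1, nat_lit 5, nat_lit 1, nat_lit 2, nat_lit 0, nat_lit 5, nat_lit 4, nat_lit 0, nat_lit 1, nat_lit 5] else [nat_lit 5, nat_lit 4, nat_lit 0, nat_lit 1, nat_lit 5, nat_lit 1, nat_lit 2, nat_lit 0, nat_lit 5, nat_lit 4, nat_lit 0, nat_lit 1, nat_lit 5, nat_lit 1, nat_lit 2, nat_lit 0, nat_lit 5, nat_lit 4, nat_lit 0, nat_lit 1, nat_lit 5, nat_lit 1, nat_lit 2, nat_lit 0]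
def Wt_202_205 (j : ℕ) : List ℕ := bif Nat.blt j 203 then [nat_lit 63, nat_lit 3, nat_lit 5, nat_lit 3, nat_lit 5] else (Wt_203_205 j)
def Wt_206_208 (j : ℕ) : List ℕ := bif Nat.blt j 207 then [nat_lit 63, nat_lit 2, nat_lit 3, nat_lit 2, nat_lit 5, nat_lit 4, nat_lit 1, nat_lit 3, nat_lit 0, nat_lit 2, nat_lit 3, nat_lit 2, nat_lit 5, nat_lit 4, nat_lit 1, nat_lit 3, nat_lit 0, nat_lit 2, nat_lit 3, nat_lit 2, nat_lit 5, nat_lit 4, nat_lit 1, nat_lit 3, nat_lit 0] else [nat_lit 63, nat_lit 4, nat_lit 3, nat_lit 4, nat_lit 3, nat_lit 5, nat_lit 3, nat_lit 2, nat_lit 4, nat_lit 3, nat_lit 4, nat_lit 3, nat_lit 5, nat_lit 3, nat_lit 2, nat_lit 4, nat_lit 3, nat_lit 4, nat_lit 3, nat_lit 5, nat_lit 3, nat_lit 2, nat_lit 4, nat_lit 3, nat_lit 4, nat_lit 3, nat_lit 5, nat_lit 3, nat_lit 2]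
def Wt_205_208 (j : ℕ) : List ℕ := bif Nat.blt j 206 then [nat_lit 63, nat_lit 0, nat_lit 1, nat_lit 5, nat_lit 1, nat_lit 2, nat_lit 0, nat_lit 5, nat_lit 4, nat_lit 0, nat_lit 1, nat_lit 5, nat_lit 1, nat_lit 2, nat_lit 0, nat_lit 5, nat_lit 4, nat_lit 0, nat_lit 1, nat_lit 5, nat_lit 1, nat_lit 2, nat_lit 0, nat_lit 5, nat_lit 4] else (Wt_206_208 j)
def Wt_202_208 (j : ℕ) : List ℕ := bif Nat.blt j 205 then (Wt_202_205 j) else (Wt_205_208 j)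
def Wt_197_208 (j : ℕ) : List ℕ := bif Nat.blt j 202 then (Wt_197_202 j) else (Wt_202_208 j)
def Wt_208_210 (j : ℕ) : List ℕ := bif Nat.blt j 209 then [nat_lit 2, nat_lit 5, nat_lit 1, nat_lit 0, nat_lit 4, nat_lit 0, nat_lit 2, nat_lit 5, nat_lit 1, nat_lit 0, nat_lit 4, nat_lit 0, nat_lit 2, nat_lit 5, nat_lit 1, nat_lit 0, nat_lit 4, nat_lit 0, nat_lit 2, nat_lit 5, nat_lit 1, nat_lit 0, nat_lit 4, nat_lit 0] else [nat_lit 1, nat_lit 0, nat_lit 1, nat_lit 5, nat_lit 0, nat_lit 3, nat_lit 1, nat_lit 0, nat_lit 1, nat_lit 5, nat_lit 0, nat_lit 3, nat_lit 1, nat_lit 0, nat_lit 1, nat_lit 5, nat_lit 0, nat_lit 3, nat_lit 1, nat_lit 0, nat_lit 1, nat_lit 5, nat_lit 0, nat_lit 3]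
def Wt_211_213 (j : ℕ) : List ℕ := bif Nat.blt j 212 then [nat_lit 1, nat_lit 3, nat_lit 0, nat_lit 5, nat_lit 1, nat_lit 0, nat_lit 1, nat_lit 3, nat_lit 0, nat_lit 5, nat_lit 1, nat_lit 0, nat_lit 1, nat_lit 3, nat_lit 0, nat_lit 5, nat_lit 1, nat_lit 0, nat_lit 1, nat_lit 3, nat_lit 0, nat_lit 5, nat_lit 1, nat_lit 0] else [nat_lit 0, nat_lit 4, nat_lit 5, nat_lit 0, nat_lit 5, nat_lit 3, nat_lit 1, nat_lit 4, nat_lit 0, nat_lit 4, nat_lit 5, nat_lit 0, nat_lit 5, nat_lit 3, nat_lit 1, nat_lit 4, nat_lit 0, nat_lit 4, nat_lit 5, nat_lit 0, nat_lit 5, nat_lit 3, nat_lit 1, nat_lit 4]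
def Wt_210_213 (j : ℕ) : List ℕ := bif Nat.blt j 211 then [nat_lit 63, nat_lit 4, nat_lit 3, nat_lit 4, nat_lit 2, nat_lit 3, nat_lit 5, nat_lit 3, nat_lit 4, nat_lit 3, nat_lit 4, nat_lit 2, nat_lit 3, nat_lit 5, nat_lit 3, nat_lit 4, nat_lit 3, nat_lit 4, nat_lit 2, nat_lit 3, nat_lit 5, nat_lit 3, nat_lit 4, nat_lit 3, nat_lit 4, nat_lit 2, nat_lit 3, nat_lit 5, nat_lit 3] else (Wt_211_213 j)
def Wt_208_213 (j : ℕ) : List ℕ := bif Nat.blt j 210 then (Wt_208_210 j) else (Wt_210_213 j)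
def Wt_214_216 (j : ℕ) : List ℕ := bif Nat.blt j 215 then [nat_lit 63, nat_lit 0, nat_lit 3, nat_lit 0, nat_lit 3] else [nat_lit 63, nat_lit 7, nat_lit 63, nat_lit 7, nat_lit 63]
def Wt_213_216 (j : ℕ) : List ℕ := bif Nat.blt j 214 then [nat_lit 3, nat_lit 1, nat_lit 0, nat_lit 1, nat_lit 5, nat_lit 0, nat_lit 3, nat_lit 1, nat_lit 0, nat_lit 1, nat_lit 5, nat_lit 0, nat_lit 3, nat_lit 1, nat_lit 0, nat_lit 1, nat_lit 5, nat_lit 0, nat_lit 3, nat_lit 1, nat_lit 0, nat_lit 1, nat_lit 5, nat_lit 0] else (Wt_214_216 j)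
def Wt_217_219 (j : ℕ) : List ℕ := bif Nat.blt j 218 then [nat_lit 3, nat_lit 1, nat_lit 4, nat_lit 0, nat_lit 4, nat_lit 5, nat_lit 0, nat_lit 5, nat_lit 3, nat_lit 1, nat_lit 4, nat_lit 0, nat_lit 4, nat_lit 5, nat_lit 0, nat_lit 5, nat_lit 3, nat_lit 1, nat_lit 4, nat_lit 0, nat_lit 4, nat_lit 5, nat_lit 0, nat_lit 5] else [nat_lit 63, nat_lit 3, nat_lit 5, nat_lit 0, nat_lit 5, nat_lit 4, nat_lit 0, nat_lit 4, nat_lit 1, nat_lit 3, nat_lit 5, nat_lit 0, nat_lit 5, nat_lit 4, nat_lit 0, nat_lit 4, nat_lit 1, nat_lit 3, nat_lit 5, nat_lit 0, nat_lit 5, nat_lit 4, nat_lit 0, nat_lit 4, nat_lit 1]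
def Wt_216_219 (j : ℕ) : List ℕ := bif Nat.blt j 217 then [nat_lit 7, nat_lit 7, nat_lit 63] else (Wt_217_219 j)
def Wt_213_219 (j : ℕ) : List ℕ := bif Nat.blt j 216 then (Wt_213_216 j) else (Wt_216_219 j)
def Wt_208_219 (j : ℕ) : List ℕ := bif Nat.blt j 213 then (Wt_208_213 j) else (Wt_213_219 j)
def Wt_197_219 (j : ℕ) : List ℕ := bif Nat.blt j 208 then (Wt_197_208 j) else (Wt_208_219 j)
def Wt_175_219 (j : ℕ) : List ℕ := bif Nat.blt j 197 then (Wt_175_197 j) else (Wt_197_219 j)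
def Wt_219_221 (j : ℕ) : List ℕ := bif Nat.blt j 220 then [nat_lit 63, nat_lit 5, nat_lit 7, nat_lit 5, nat_lit 7, nat_lit 5, nat_lit 7] else [nat_lit 63, nat_lit 0, nat_lit 4, nat_lit 1, nat_lit 3, nat_lit 5, nat_lit 0, nat_lit 5, nat_lit 4, nat_lit 0, nat_lit 4, nat_lit 1, nat_lit 3, nat_lit 5, nat_lit 0, nat_lit 5, nat_lit 4, nat_lit 0, nat_lit 4, nat_lit 1, nat_lit 3, nat_lit 5, nat_lit 0, nat_lit 5, nat_lit 4]
def Wt_222_224 (j : ℕ) : List ℕ := bif Nat.blt j 223 then [nat_lit 63, nat_lit 3, nat_lit 0, nat_lit 5, nat_lit 4, nat_lit 5, nat_lit 4, nat_lit 3, nat_lit 0, nat_lit 5, nat_lit 4, nat_lit 5, nat_lit 4, nat_lit 3, nat_lit 0, nat_lit 5, nat_lit 4, nat_lit 5, nat_lit 4, nat_lit 3, nat_lit 0, nat_lit 5, nat_lit 4, nat_lit 5, nat_lit 4] else [nat_lit 63, nat_lit 63, nat_lit 0, nat_lit 63, nat_lit 0]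
def Wt_221_224 (j : ℕ) : List ℕ := bif Nat.blt j 222 then [nat_lit 63, nat_lit 5, nat_lit 4, nat_lit 0, nat_lit 4, nat_lit 1, nat_lit 3, nat_lit 5, nat_lit 0, nat_lit 5, nat_lit 4, nat_lit 0, nat_lit 4, nat_lit 1, nat_lit 3, nat_lit 5, nat_lit 0, nat_lit 5, nat_lit 4, nat_lit 0, nat_lit 4, nat_lit 1, nat_lit 3, nat_lit 5, nat_lit 0] else (Wt_222_224 j)
def Wt_219_224 (j : ℕ) : List ℕ := bif Nat.blt j 221 then (Wt_219_221 j) else (Wt_221_224 j)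
def Wt_225_227 (j : ℕ) : List ℕ := bif Nat.blt j 226 then [nat_lit 63, nat_lit 6, nat_lit 63, nat_lit 6, nat_lit 63] else [nat_lit 63, nat_lit 63, nat_lit 5, nat_lit 63, nat_lit 5]
def Wt_224_227 (j : ℕ) : List ℕ := bif Nat.blt j 225 then [nat_lit 63, nat_lit 63, nat_lit 1, nat_lit 63, nat_lit 1] else (Wt_225_227 j)
def Wt_228_230 (j : ℕ) : List ℕ := bif Nat.blt j 229 then [nat_lit 63, nat_lit 2, nat_lit 0, nat_lit 4, nat_lit 0, nat_lit 1, nat_lit 5, nat_lit 2, nat_lit 0, nat_lit 4, nat_lit 0, nat_lit 1, nat_lit 5, nat_lit 2, nat_lit 0, nat_lit 4, nat_lit 0, nat_lit 1, nat_lit 5, nat_lit 2, nat_lit 0, nat_lit 4, nat_lit 0, nat_lit 1, nat_lit 5] else [nat_lit 63, nat_lit 5, nat_lit 0, nat_lit 2, nat_lit 1, nat_lit 5, nat_lit 1, nat_lit 0, nat_lit 4, nat_lit 5, nat_lit 0, nat_lit 2, nat_lit 1, nat_lit 5, nat_lit 1, nat_lit 0, nat_lit 4, nat_lit 5, nat_lit 0, nat_lit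 2, nat_lit 1, nat_lit 5, nat_lit 1, nat_lit 0, nat_lit 4]
def Wt_227_230 (j : ℕ) : List ℕ := bif Nat.blt j 228 then [nat_lit 3, nat_lit 63, nat_lit 3, nat_lit 63] else (Wt_228_230 j)
def Wt_224_230 (j : ℕ) : List ℕ := bif Nat.blt j 227 then (Wt_224_227 j) else (Wt_227_230 j)
def Wt_219_230 (j : ℕ) : List ℕ := bif Nat.blt j 224 then (Wt_219_224 j) else (Wt_224_230 j)
def Wt_230_232 (j : ℕ) : List ℕ := bif Nat.blt j 231 then [nat_lit 63, nat_lit 4, nat_lit 3, nat_lit 4, nat_lit 3, nat_lit 4, nat_lit 3] else [nat_lit 63, nat_lit 0, nat_lit 1, nat_lit 5, nat_lit 0, nat_lit 3, nat_lit 1, nat_lit 0, nat_lit 1, nat_lit 5, nat_lit 0, nat_lit 3, nat_lit 1, nat_lit 0, nat_lit 1, nat_lit 5, nat_lit 0, nat_lit 3, nat_lit 1, nat_lit 0, nat_lit 1, nat_lit 5, nat_lit 0, nat_lit 3, nat_lit 1]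
def Wt_233_235 (j : ℕ) : List ℕ := bif Nat.blt j 234 then [nat_lit 63, nat_lit 5, nat_lit 1, nat_lit 0, nat_lit 3, nat_lit 2, nat_lit 3, nat_lit 1, nat_lit 5, nat_lit 1, nat_lit 0, nat_lit 3, nat_lit 2, nat_lit 3, nat_lit 1, nat_lit 5, nat_lit 1, nat_lit 0, nat_lit 3, nat_lit 2, nat_lit 3, nat_lit 1, nat_lit 5, nat_lit 1, nat_lit 0, nat_lit 3, nat_lit 2, nat_lit 3, nat_lit 1] else [nat_lit 63, nat_lit 4, nat_lit 5, nat_lit 2, nat_lit 3, nat_lit 2, nat_lit 0, nat_lit 3, nat_lit 1, nat_lit 4, nat_lit 5, nat_lit 2, nat_lit 3, nat_lit 2, nat_lit 0, nat_lit 3, nat_lit 1, nat_lit 4, nat_lit 5, nat_lit 2, nat_lit 3, nat_lit 2, nat_lit 0, nat_lit 3, nat_lit 1]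
def Wt_232_235 (j : ℕ) : List ℕ := bif Nat.blt j 233 then [nat_lit 5, nat_lit 63, nat_lit 5, nat_lit 63] else (Wt_233_235 j)
def Wt_230_235 (j : ℕ) : List ℕ := bif Nat.blt j 232 then (Wt_230_232 j) else (Wt_232_235 j)
def Wt_236_238 (j : ℕ) : List ℕ := bif Nat.blt j 237 then [nat_lit 63, nat_lit 1, nat_lit 0, nat_lit 4, nat_lit 0, nat_lit 2, nat_lit 5, nat_lit 1, nat_lit 0, nat_lit 4, nat_lit 0, nat_lit 2, nat_lit 5, nat_lit 1, nat_lit 0, nat_lit 4, nat_lit 0, nat_lit 2, nat_lit 5, nat_lit 1, nat_lit 0, nat_lit 4, nat_lit 0, nat_lit 2, nat_lit 5] else [nat_lit 63, nat_lit 4, nat_lit 6, nat_lit 5, nat_lit 6, nat_lit 0, nat_lit 5, nat_lit 1, nat_lit 3, nat_lit 6, nat_lit 2, nat_lit 4, nat_lit 6, nat_lit 5, nat_lit 6, nat_lit 0, nat_lit 5, nat_lit 1, nat_lit 3, nat_lit 6, nat_lit 2, nat_lit 4, nat_lit 6, nat_lit 5, nat_lit 6, nat_lit 0, nat_lit 5, nat_lit 1, nat_lit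 3, nat_lit 6, nat_lit 2, nat_lit 4, nat_lit 6, nat_lit 5, nat_lit 6, nat_lit 0, nat_lit 5, nat_lit 1, nat_lit 3, nat_lit 6, nat_lit 2, nat_lit 4, nat_lit 6, nat_lit 5, nat_lit 6, nat_lit 0, nat_lit 5, nat_lit 1, nat_lit 3, nat_lit 6, nat_lit 2]
def Wt_235_238 (j : ℕ) : List ℕ := bif Nat.blt j 236 then [nat_lit 63, nat_lit 0, nat_lit 4, nat_lit 0, nat_lit 1, nat_lit 5, nat_lit 2, nat_lit 0, nat_lit 4, nat_lit 0, nat_lit 1, nat_lit 5, nat_lit 2, nat_lit 0, nat_lit 4, nat_lit 0, nat_lit 1, nat_lit 5, nat_lit 2, nat_lit 0, nat_lit 4, nat_lit 0, nat_lit 1, nat_lit 5, nat_lit 2] else (Wt_236_238 j)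
def Wt_239_241 (j : ℕ) : List ℕ := bif Nat.blt j 240 then [nat_lit 63, nat_lit 63, nat_lit 3, nat_lit 63, nat_lit 3] else [nat_lit 63, nat_lit 63, nat_lit 1, nat_lit 63, nat_lit 1, nat_lit 63]
def Wt_238_241 (j : ℕ) : List ℕ := bif Nat.blt j 239 then [nat_lit 63, nat_lit 0, nat_lit 6, nat_lit 5, nat_lit 6, nat_lit 4, nat_lit 2, nat_lit 6, nat_lit 3, nat_lit 1, nat_lit 5, nat_lit 0, nat_lit 6, nat_lit 5, nat_lit 6, nat_lit 4, nat_lit 2, nat_lit 6, nat_lit 3, nat_lit 1, nat_lit 5, nat_lit 0, nat_lit 6, nat_lit 5, nat_lit 6, nat_lit 4, nat_lit 2, nat_lit 6, nat_lit 3, nat_lit 1, nat_lit 5, nat_lit 0, nat_lit 6, nat_lit 5, nat_lit 6, nat_lit 4, nat_lit 2, nat_lit 6, nat_lit 3, nat_lit 1, nat_lit 5, nat_lit 0, nat_lit 6, nat_lit 5, nat_lit 6, nat_lit 4, nat_lit 2, nat_lit 6, nat_lit 3, nat_lit 1, nat_lit 5] else (Wt_239_241 j)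
def Wt_235_241 (j : ℕ) : List ℕ := bif Nat.blt j 238 then (Wt_235_238 j) else (Wt_238_241 j)
def Wt_230_241 (j : ℕ) : List ℕ := bif Nat.blt j 235 then (Wt_230_235 j) else (Wt_235_241 j)
def Wt_219_241 (j : ℕ) : List ℕ := bif Nat.blt j 230 then (Wt_219_230 j) else (Wt_230_241 j)
def Wt_241_243 (j : ℕ) : List ℕ := bif Nat.blt j 242 then [nat_lit 63, nat_lit 6, nat_lit 5, nat_lit 6, nat_lit 5] else [nat_lit 63, nat_lit 5, nat_lit 1, nat_lit 3, nat_lit 2, nat_lit 3, nat_lit 0, nat_lit 1, nat_lit 5, nat_lit 1, nat_lit 3, nat_lit 2, nat_lit 3, nat_lit 0, nat_lit 1, nat_lit 5, nat_lit 1, nat_lit 3, nat_lit 2, nat_lit 3, nat_lit 0, nat_lit 1, nat_lit 5, nat_lit 1, nat_lit 3, nat_lit 2, nat_lit 3, nat_lit 0, nat_lit 1]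
def Wt_244_246 (j : ℕ) : List ℕ := bif Nat.blt j 245 then [nat_lit 63, nat_lit 5, nat_lit 4, nat_lit 3, nat_lit 2, nat_lit 1, nat_lit 0, nat_lit 5, nat_lit 4, nat_lit 3, nat_lit 2, nat_lit 1, nat_lit 0, nat_lit 5, nat_lit 4, nat_lit 3, nat_lit 2, nat_lit 1, nat_lit 0, nat_lit 5, nat_lit 4, nat_lit 3, nat_lit 2, nat_lit 1, nat_lit 0] else [nat_lit 63, nat_lit 5, nat_lit 6, nat_lit 5, nat_lit 6]
def Wt_243_246 (j : ℕ) : List ℕ := bif Nat.blt j 244 then [nat_lit 5, nat_lit 1, nat_lit 0, nat_lit 4, nat_lit 5, nat_lit 0, nat_lit 2, nat_lit 1, nat_lit 5, nat_lit 1, nat_lit 0, nat_lit 4, nat_lit 5, nat_lit 0, nat_lit 2, nat_lit 1, nat_lit 5, nat_lit 1, nat_lit 0, nat_lit 4, nat_lit 5, nat_lit 0, nat_lit 2, nat_lit 1] else (Wt_244_246 j)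
def Wt_241_246 (j : ℕ) : List ℕ := bif Nat.blt j 243 then (Wt_241_243 j) else (Wt_243_246 j)
def Wt_247_249 (j : ℕ) : List ℕ := bif Nat.blt j 248 then [nat_lit 5, nat_lit 1, nat_lit 0, nat_lit 3, nat_lit 2, nat_lit 3, nat_lit 1, nat_lit 5, nat_lit 1, nat_lit 0, nat_lit 3, nat_lit 2, nat_lit 3, nat_lit 1, nat_lit 5, nat_lit 1, nat_lit 0, nat_lit 3, nat_lit 2, nat_lit 3, nat_lit 1, nat_lit 5, nat_lit 1, nat_lit 0, nat_lit 3, nat_lit 2, nat_lit 3, nat_lit 1] else [nat_lit 63, nat_lit 5, nat_lit 0, nat_lit 6, nat_lit 5, nat_lit 6, nat_lit 4, nat_lit 2, nat_lit 6, nat_lit 3, nat_lit 1, nat_lit 5, nat_lit 0, nat_lit 6, nat_lit 5, nat_lit 6, nat_lit 4, nat_lit 2, nat_lit 6, nat_lit 3, nat_lit 1, nat_lit 5, nat_lit 0, nat_lit 6, nat_lit 5, nat_lit 6, nat_lit 4, nat_lit 2, nat_lit 6, nat_lit 3, nat_lit 1, nat_lit 5, nat_lit 0, nat_lit 6, nat_lit 5, nat_lit 6, nat_lit 4,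 nat_lit 2, nat_lit 6, nat_lit 3, nat_lit 1, nat_lit 5, nat_lit 0, nat_lit 6, nat_lit 5, nat_lit 6, nat_lit 4, nat_lit 2, nat_lit 6, nat_lit 3, nat_lit 1]
def Wt_246_249 (j : ℕ) : List ℕ := bif Nat.blt j 247 then [nat_lit 3, nat_lit 2, nat_lit 0, nat_lit 3, nat_lit 1, nat_lit 4, nat_lit 5, nat_lit 2, nat_lit 3, nat_lit 2, nat_lit 0, nat_lit 3, nat_lit 1, nat_lit 4, nat_lit 5, nat_lit 2, nat_lit 3, nat_lit 2, nat_lit 0, nat_lit 3, nat_lit 1, nat_lit 4, nat_lit 5, nat_lit 2] else (Wt_247_249 j)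
def Wt_250_252 (j : ℕ) : List ℕ := bif Nat.blt j 251 then [nat_lit 63, nat_lit 63, nat_lit 5, nat_lit 63, nat_lit 5, nat_lit 63] else [nat_lit 63, nat_lit 63, nat_lit 0, nat_lit 63, nat_lit 0, nat_lit 63]
def Wt_249_252 (j : ℕ) : List ℕ := bif Nat.blt j 250 then [nat_lit 63, nat_lit 5, nat_lit 2, nat_lit 3, nat_lit 1, nat_lit 4, nat_lit 1, nat_lit 4, nat_lit 3, nat_lit 5, nat_lit 2, nat_lit 3, nat_lit 1, nat_lit 4, nat_lit 1, nat_lit 4, nat_lit 3, nat_lit 5, nat_lit 2, nat_lit 3, nat_lit 1, nat_lit 4, nat_lit 1, nat_lit 4, nat_lit 3] else (Wt_250_252 j)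
def Wt_246_252 (j : ℕ) : List ℕ := bif Nat.blt j 249 then (Wt_246_249 j) else (Wt_249_252 j)
def Wt_241_252 (j : ℕ) : List ℕ := bif Nat.blt j 246 then (Wt_241_246 j) else (Wt_246_252 j)
def Wt_252_254 (j : ℕ) : List ℕ := bif Nat.blt j 253 then [nat_lit 63, nat_lit 5, nat_lit 4, nat_lit 5, nat_lit 0, nat_lit 3, nat_lit 4, nat_lit 5, nat_lit 4, nat_lit 5, nat_lit 0, nat_lit 3, nat_lit 4, nat_lit 5, nat_lit 4, nat_lit 5, nat_lit 0, nat_lit 3, nat_lit 4, nat_lit 5, nat_lit 4, nat_lit 5, nat_lit 0, nat_lit 3, nat_lit 4] else [nat_lit 63, nat_lit 1, nat_lit 3, nat_lit 0, nat_lit 5, nat_lit 1, nat_lit 0, nat_lit 1, nat_lit 3, nat_lit 0, nat_lit 5, nat_lit 1, nat_lit 0, nat_lit 1, nat_lit 3, nat_lit 0, nat_lit 5, nat_lit 1, nat_lit 0, nat_lit 1, nat_lit 3, nat_lit 0, nat_lit 5, nat_lit 1, nat_lit 0]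
def Wt_255_257 (j : ℕ) : List ℕ := bif Nat.blt j 256 then [nat_lit 63, nat_lit 5, nat_lit 2, nat_lit 7, nat_lit 2, nat_lit 3, nat_lit 4, nat_lit 5, nat_lit 1, nat_lit 5, nat_lit 0, nat_lit 6, nat_lit 5, nat_lit 2, nat_lit 7, nat_lit 2, nat_lit 3, nat_lit 4, nat_lit 5, nat_lit 1, nat_lit 5, nat_lit 0, nat_lit 6, nat_lit 5, nat_lit 2, nat_lit 7, nat_lit 2, nat_lit 3, nat_lit 4, nat_lit 5, nat_lit 1, nat_lit 5, nat_lit 0, nat_lit 6, nat_lit 5, nat_lit 2, nat_lit 7, nat_lit 2, nat_lit 3, nat_lit 4, nat_lit 5, nat_lit 1, nat_lit 5, nat_lit 0, nat_lit 6, nat_lit 5, nat_lit 2, nat_lit 7, nat_lit 2, nat_lit 3, nat_lit 4, nat_lit 5, nat_lit 1, nat_lit 5, nat_lit 0, nat_lit 6, nat_lit 5, nat_lit 2, nat_lit 7, nat_lit 2, nat_lit 3, nat_lit 4, nat_lit 5, nat_lit 1, nat_lit 5, nat_lit 0, nat_lit 6, nat_lit 5, nat_lit 2, nat_lit 7, nat_lit 2, nat_lit 3, nat_lit 4, nat_lit 5,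 nat_lit 1, nat_lit 5, nat_lit 0, nat_lit 6, nat_lit 5, nat_lit 2, nat_lit 7, nat_lit 2, nat_lit 3, nat_lit 4, nat_lit 5, nat_lit 1, nat_lit 5, nat_lit 0, nat_lit 6, nat_lit 5, nat_lit 2, nat_lit 7, nat_lit 2, nat_lit 3, nat_lit 4, nat_lit 5, nat_lit 1, nat_lit 5, nat_lit 0, nat_lit 6] else [nat_lit 4, nat_lit 2, nat_lit 3, nat_lit 4, nat_lit 5, nat_lit 1, nat_lit 2, nat_lit 1, nat_lit 4, nat_lit 2, nat_lit 3, nat_lit 4, nat_lit 5, nat_lit 1, nat_lit 2, nat_lit 1, nat_lit 4, nat_lit 2, nat_lit 3, nat_lit 4, nat_lit 5, nat_lit 1, nat_lit 2, nat_lit 1]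
def Wt_254_257 (j : ℕ) : List ℕ := bif Nat.blt j 255 then [nat_lit 63, nat_lit 63, nat_lit 2, nat_lit 63, nat_lit 2, nat_lit 63] else (Wt_255_257 j)
def Wt_252_257 (j : ℕ) : List ℕ := bif Nat.blt j 254 then (Wt_252_254 j) else (Wt_254_257 j)
def Wt_258_260 (j : ℕ) : List ℕ := bif Nat.blt j 259 then [nat_lit 63, nat_lit 3, nat_lit 5, nat_lit 0, nat_lit 4, nat_lit 0, nat_lit 5, nat_lit 4, nat_lit 5, nat_lit 3, nat_lit 5, nat_lit 0, nat_lit 4, nat_lit 0, nat_lit 5, nat_lit 4, nat_lit 5, nat_lit 3, nat_lit 5, nat_lit 0, nat_lit 4, nat_lit 0, nat_lit 5, nat_lit 4, nat_lit 5] else [nat_lit 6, nat_lit 63, nat_lit 6, nat_lit 63]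
def Wt_257_260 (j : ℕ) : List ℕ := bif Nat.blt j 258 then [nat_lit 7, nat_lit 2, nat_lit 3, nat_lit 4, nat_lit 5, nat_lit 1, nat_lit 5, nat_lit 0, nat_lit 6, nat_lit 5, nat_lit 2, nat_lit 7, nat_lit 2, nat_lit 3, nat_lit 4, nat_lit 5, nat_lit 1, nat_lit 5, nat_lit 0, nat_lit 6, nat_lit 5, nat_lit 2, nat_lit 7, nat_lit 2, nat_lit 3, nat_lit 4, nat_lit 5, nat_lit 1, nat_lit 5, nat_lit 0, nat_lit 6, nat_lit 5, nat_lit 2, nat_lit 7, nat_lit 2, nat_lit 3, nat_lit 4, nat_lit 5, nat_lit 1, nat_lit 5, nat_lit 0, nat_lit 6, nat_lit 5, nat_lit 2, nat_lit 7, nat_lit 2, nat_lit 3, nat_lit 4, nat_lit 5, nat_lit 1, nat_lit 5, nat_lit 0, nat_lit 6, nat_lit 5, nat_lit 2, nat_lit 7, nat_lit 2, nat_lit 3, nat_lit 4, nat_lit 5, nat_lit 1, nat_lit 5, nat_lit 0, nat_lit 6, nat_lit 5, nat_lit 2, nat_lit 7, nat_lit 2, nat_lit 3, nat_lit 4, nat_lit 5, nat_lit 1, nat_lit 5, nat_lit 0, nat_lit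 6, nat_lit 5, nat_lit 2, nat_lit 7, nat_lit 2, nat_lit 3, nat_lit 4, nat_lit 5, nat_lit 1, nat_lit 5, nat_lit 0, nat_lit 6, nat_lit 5, nat_lit 2, nat_lit 7, nat_lit 2, nat_lit 3, nat_lit 4, nat_lit 5, nat_lit 1, nat_lit 5, nat_lit 0, nat_lit 6, nat_lit 5, nat_lit 2] else (Wt_258_260 j)
def Wt_261_263 (j : ℕ) : List ℕ := bif Nat.blt j 262 then [nat_lit 4, nat_lit 0, nat_lit 5, nat_lit 4, nat_lit 5, nat_lit 3, nat_lit 5, nat_lit 0, nat_lit 4, nat_lit 0, nat_lit 5, nat_lit 4, nat_lit 5, nat_lit 3, nat_lit 5, nat_lit 0, nat_lit 4, nat_lit 0, nat_lit 5, nat_lit 4, nat_lit 5, nat_lit 3, nat_lit 5, nat_lit 0] else [nat_lit 5, nat_lit 0, nat_lit 5, nat_lit 3, nat_lit 1, nat_lit 4, nat_lit 0, nat_lit 4, nat_lit 5, nat_lit 0, nat_lit 5, nat_lit 3, nat_lit 1, nat_lit 4, nat_lit 0, nat_lit 4, nat_lit 5, nat_lit 0, nat_lit 5, nat_lit 3, nat_lit 1, nat_lit 4, nat_lit 0, nat_lit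 4]
def Wt_260_263 (j : ℕ) : List ℕ := bif Nat.blt j 261 then [nat_lit 7, nat_lit 63, nat_lit 7, nat_lit 63] else (Wt_261_263 j)
def Wt_257_263 (j : ℕ) : List ℕ := bif Nat.blt j 260 then (Wt_257_260 j) else (Wt_260_263 j)
def Wt_252_263 (j : ℕ) : List ℕ := bif Nat.blt j 257 then (Wt_252_257 j) else (Wt_257_263 j)
def Wt_241_263 (j : ℕ) : List ℕ := bif Nat.blt j 252 then (Wt_241_252 j) else (Wt_252_263 j)
def Wt_219_263 (j : ℕ) : List ℕ := bif Nat.blt j 241 then (Wt_219_241 j) else (Wt_241_263 j)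
def Wt_175_263 (j : ℕ) : List ℕ := bif Nat.blt j 219 then (Wt_175_219 j) else (Wt_219_263 j)
def Wt_263_265 (j : ℕ) : List ℕ := bif Nat.blt j 264 then [nat_lit 63, nat_lit 3, nat_lit 2, nat_lit 1, nat_lit 0, nat_lit 5, nat_lit 4, nat_lit 3, nat_lit 2, nat_lit 1, nat_lit 0, nat_lit 5, nat_lit 4, nat_lit 3, nat_lit 2, nat_lit 1, nat_lit 0, nat_lit 5, nat_lit 4, nat_lit 3, nat_lit 2, nat_lit 1, nat_lit 0, nat_lit 5, nat_lit 4] else [nat_lit 4, nat_lit 1, nat_lit 4, nat_lit 3, nat_lit 5, nat_lit 2, nat_lit 3, nat_lit 1, nat_lit 4, nat_lit 1, nat_lit 4, nat_lit 3, nat_lit 5, nat_lit 2, nat_lit 3, nat_lit 1, nat_lit 4, nat_lit 1, nat_lit 4, nat_lit 3, nat_lit 5, nat_lit 2, nat_lit 3, nat_lit 1]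
def Wt_266_268 (j : ℕ) : List ℕ := bif Nat.blt j 267 then [nat_lit 6, nat_lit 5, nat_lit 7, nat_lit 3, nat_lit 7, nat_lit 4, nat_lit 2, nat_lit 7, nat_lit 3, nat_lit 0, nat_lit 3, nat_lit 6, nat_lit 5, nat_lit 7, nat_lit 3, nat_lit 7, nat_lit 4, nat_lit 2, nat_lit 7, nat_lit 3, nat_lit 0, nat_lit 3, nat_lit 6, nat_lit 5, nat_lit 7, nat_lit 3, nat_lit 7, nat_lit 4, nat_lit 2, nat_lit 7, nat_lit 3, nat_lit 0, nat_lit 3, nat_lit 6, nat_lit 5, nat_lit 7, nat_lit 3, nat_lit 7, nat_lit 4, nat_lit 2, nat_lit 7, nat_lit 3, nat_lit 0, nat_lit 3, nat_lit 6, nat_lit 5, nat_lit 7, nat_lit 3, nat_lit 7, nat_lit 4, nat_lit 2, nat_lit 7, nat_lit 3, nat_lit 0, nat_lit 3, nat_lit 6, nat_lit 5, nat_lit 7, nat_lit 3, nat_lit 7, nat_lit 4, nat_lit 2, nat_lit 7, nat_lit 3, nat_lit 0, nat_lit 3, nat_lit 6, nat_lit 5, nat_lit 7, nat_lit 3, nat_lit 7, nat_lit 4, nat_lit 2, nat_lit 7, nat_lit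 3, nat_lit 0, nat_lit 3, nat_lit 6, nat_lit 5, nat_lit 7, nat_lit 3, nat_lit 7, nat_lit 4, nat_lit 2, nat_lit 7, nat_lit 3, nat_lit 0, nat_lit 3, nat_lit 6, nat_lit 5, nat_lit 7, nat_lit 3, nat_lit 7, nat_lit 4, nat_lit 2, nat_lit 7, nat_lit 3, nat_lit 0, nat_lit 3] else [nat_lit 63, nat_lit 0, nat_lit 4, nat_lit 5, nat_lit 3, nat_lit 2, nat_lit 3, nat_lit 0, nat_lit 5, nat_lit 0, nat_lit 4, nat_lit 5, nat_lit 3, nat_lit 2, nat_lit 3, nat_lit 0, nat_lit 5, nat_lit 0, nat_lit 4, nat_lit 5, nat_lit 3, nat_lit 2, nat_lit 3, nat_lit 0, nat_lit 5]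
def Wt_265_268 (j : ℕ) : List ℕ := bif Nat.blt j 266 then [nat_lit 5, nat_lit 6, nat_lit 3, nat_lit 0, nat_lit 3, nat_lit 7, nat_lit 2, nat_lit 4, nat_lit 7, nat_lit 3, nat_lit 7, nat_lit 5, nat_lit 6, nat_lit 3, nat_lit 0, nat_lit 3, nat_lit 7, nat_lit 2, nat_lit 4, nat_lit 7, nat_lit 3, nat_lit 7, nat_lit 5, nat_lit 6, nat_lit 3, nat_lit 0, nat_lit 3, nat_lit 7, nat_lit 2, nat_lit 4, nat_lit 7, nat_lit 3, nat_lit 7, nat_lit 5, nat_lit 6, nat_lit 3, nat_lit 0, nat_lit 3, nat_lit 7, nat_lit 2, nat_lit 4, nat_lit 7, nat_lit 3, nat_lit 7, nat_lit 5, nat_lit 6, nat_lit 3, nat_lit 0, nat_lit 3, nat_lit 7, nat_lit 2, nat_lit 4, nat_lit 7, nat_lit 3, nat_lit 7, nat_lit 5, nat_lit 6, nat_lit 3, nat_lit 0, nat_lit 3, nat_lit 7, nat_lit 2, nat_lit 4, nat_lit 7, nat_lit 3, nat_lit 7, nat_lit 5, nat_lit 6, nat_lit 3, nat_lit 0, nat_lit 3, nat_lit 7, nat_lit 2, nat_lit 4, nat_lit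 7, nat_lit 3, nat_lit 7, nat_lit 5, nat_lit 6, nat_lit 3, nat_lit 0, nat_lit 3, nat_lit 7, nat_lit 2, nat_lit 4, nat_lit 7, nat_lit 3, nat_lit 7, nat_lit 5, nat_lit 6, nat_lit 3, nat_lit 0, nat_lit 3, nat_lit 7, nat_lit 2, nat_lit 4, nat_lit 7, nat_lit 3, nat_lit 7] else (Wt_266_268 j)
def Wt_263_268 (j : ℕ) : List ℕ := bif Nat.blt j 265 then (Wt_263_265 j) else (Wt_265_268 j)
def Wt_269_271 (j : ℕ) : List ℕ := bif Nat.blt j 270 then [nat_lit 63, nat_lit 3, nat_lit 1, nat_lit 5, nat_lit 0, nat_lit 6, nat_lit 5, nat_lit 6, nat_lit 4, nat_lit 2, nat_lit 6, nat_lit 3, nat_lit 1, nat_lit 5, nat_lit 0, nat_lit 6, nat_lit 5, nat_lit 6, nat_lit 4, nat_lit 2, nat_lit 6, nat_lit 3, nat_lit 1, nat_lit 5, nat_lit 0, nat_lit 6, nat_lit 5, nat_lit 6, nat_lit 4, nat_lit 2, nat_lit 6, nat_lit 3, nat_lit 1, nat_lit 5, nat_lit 0, nat_lit 6, nat_lit 5, nat_lit 6, nat_lit 4, nat_lit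 2, nat_lit 6, nat_lit 3, nat_lit 1, nat_lit 5, nat_lit 0, nat_lit 6, nat_lit 5, nat_lit 6, nat_lit 4, nat_lit 2, nat_lit 6] else [nat_lit 2, nat_lit 5, nat_lit 3, nat_lit 4, nat_lit 1, nat_lit 4, nat_lit 1, nat_lit 3, nat_lit 2, nat_lit 5, nat_lit 3, nat_lit 4, nat_lit 1, nat_lit 4, nat_lit 1, nat_lit 3, nat_lit 2, nat_lit 5, nat_lit 3, nat_lit 4, nat_lit 1, nat_lit 4, nat_lit 1, nat_lit 3]
def Wt_268_271 (j : ℕ) : List ℕ := bif Nat.blt j 269 then [nat_lit 1, nat_lit 5, nat_lit 1, nat_lit 3, nat_lit 2, nat_lit 3, nat_lit 0, nat_lit 1, nat_lit 5, nat_lit 1, nat_lit 3, nat_lit 2, nat_lit 3, nat_lit 0, nat_lit 1, nat_lit 5, nat_lit 1, nat_lit 3, nat_lit 2, nat_lit 3, nat_lit 0, nat_lit 1, nat_lit 5, nat_lit 1, nat_lit 3, nat_lit 2, nat_lit 3, nat_lit 0] else (Wt_269_271 j)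
def Wt_272_274 (j : ℕ) : List ℕ := bif Nat.blt j 273 then [nat_lit 5, nat_lit 1, nat_lit 2, nat_lit 0, nat_lit 5, nat_lit 4, nat_lit 0, nat_lit 1, nat_lit 5, nat_lit 1, nat_lit 2, nat_lit 0, nat_lit 5, nat_lit 4, nat_lit 0, nat_lit 1, nat_lit 5, nat_lit 1, nat_lit 2, nat_lit 0, nat_lit 5, nat_lit 4, nat_lit 0, nat_lit 1] else [nat_lit 5, nat_lit 3, nat_lit 4, nat_lit 3, nat_lit 5, nat_lit 3, nat_lit 4, nat_lit 5, nat_lit 3, nat_lit 4, nat_lit 3, nat_lit 5, nat_lit 3, nat_lit 4, nat_lit 5, nat_lit 3, nat_lit 4, nat_lit 3, nat_lit 5, nat_lit 3, nat_lit 4, nat_lit 5, nat_lit 3, nat_lit 4, nat_lit 3, nat_lit 5, nat_lit 3, nat_lit 4]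
def Wt_271_274 (j : ℕ) : List ℕ := bif Nat.blt j 272 then [nat_lit 63, nat_lit 5, nat_lit 1, nat_lit 0, nat_lit 4, nat_lit 0, nat_lit 2, nat_lit 5, nat_lit 1, nat_lit 0, nat_lit 4, nat_lit 0, nat_lit 2, nat_lit 5, nat_lit 1, nat_lit 0, nat_lit 4, nat_lit 0, nat_lit 2, nat_lit 5, nat_lit 1, nat_lit 0, nat_lit 4, nat_lit 0, nat_lit 2] else (Wt_272_274 j)
def Wt_268_274 (j : ℕ) : List ℕ := bif Nat.blt j 271 then (Wt_268_271 j) else (Wt_271_274 j)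
def Wt_263_274 (j : ℕ) : List ℕ := bif Nat.blt j 268 then (Wt_263_268 j) else (Wt_268_274 j)
def Wt_274_276 (j : ℕ) : List ℕ := bif Nat.blt j 275 then [nat_lit 0, nat_lit 3, nat_lit 1, nat_lit 4, nat_lit 5, nat_lit 2, nat_lit 3, nat_lit 2, nat_lit 0, nat_lit 3, nat_lit 1, nat_lit 4, nat_lit 5, nat_lit 2, nat_lit 3, nat_lit 2, nat_lit 0, nat_lit 3, nat_lit 1, nat_lit 4, nat_lit 5, nat_lit 2, nat_lit 3, nat_lit 2] else [nat_lit 4, nat_lit 3, nat_lit 5, nat_lit 3, nat_lit 4, nat_lit 3, nat_lit 5, nat_lit 4, nat_lit 3, nat_lit 5, nat_lit 3, nat_lit 4, nat_lit 3, nat_lit 5, nat_lit 4, nat_lit 3, nat_lit 5, nat_lit 3, nat_lit 4, nat_lit 3, nat_lit 5, nat_lit 4, nat_lit 3, nat_lit 5, nat_lit 3, nat_lit 4, nat_lit 3, nat_lit 5]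
def Wt_277_279 (j : ℕ) : List ℕ := bif Nat.blt j 278 then [nat_lit 63, nat_lit 4, nat_lit 1, nat_lit 4, nat_lit 1, nat_lit 3, nat_lit 2, nat_lit 5, nat_lit 3, nat_lit 4, nat_lit 1, nat_lit 4, nat_lit 1, nat_lit 3, nat_lit 2, nat_lit 5, nat_lit 3, nat_lit 4, nat_lit 1, nat_lit 4, nat_lit 1, nat_lit 3, nat_lit 2, nat_lit 5, nat_lit 3] else [nat_lit 2, nat_lit 3, nat_lit 4, nat_lit 5, nat_lit 0, nat_lit 1, nat_lit 2, nat_lit 3, nat_lit 4, nat_lit 5, nat_lit 0, nat_lit 1, nat_lit 2, nat_lit 3, nat_lit 4, nat_lit 5, nat_lit 0, nat_lit 1, nat_lit 2, nat_lit 3, nat_lit 4, nat_lit 5, nat_lit 0, nat_lit 1]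
def Wt_276_279 (j : ℕ) : List ℕ := bif Nat.blt j 277 then [nat_lit 5, nat_lit 3, nat_lit 4, nat_lit 5, nat_lit 3, nat_lit 4, nat_lit 3, nat_lit 5, nat_lit 3, nat_lit 4, nat_lit 5, nat_lit 3, nat_lit 4, nat_lit 3, nat_lit 5, nat_lit 3, nat_lit 4, nat_lit 5, nat_lit 3, nat_lit 4, nat_lit 3, nat_lit 5, nat_lit 3, nat_lit 4, nat_lit 5, nat_lit 3, nat_lit 4, nat_lit 3] else (Wt_277_279 j)
def Wt_274_279 (j : ℕ) : List ℕ := bif Nat.blt j 276 then (Wt_274_276 j) else (Wt_276_279 j)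
def Wt_280_282 (j : ℕ) : List ℕ := bif Nat.blt j 281 then [nat_lit 63, nat_lit 0, nat_lit 3, nat_lit 1, nat_lit 4, nat_lit 5, nat_lit 2, nat_lit 3, nat_lit 2, nat_lit 0, nat_lit 3, nat_lit 1, nat_lit 4, nat_lit 5, nat_lit 2, nat_lit 3, nat_lit 2, nat_lit 0, nat_lit 3, nat_lit 1, nat_lit 4, nat_lit 5, nat_lit 2, nat_lit 3, nat_lit 2] else [nat_lit 1, nat_lit 3, nat_lit 6, nat_lit 2, nat_lit 4, nat_lit 6, nat_lit 5, nat_lit 6, nat_lit 0, nat_lit 5, nat_lit 1, nat_lit 3, nat_lit 6, nat_lit 2, nat_lit 4, nat_lit 6, nat_lit 5, nat_lit 6, nat_lit 0, nat_lit 5, nat_lit 1, nat_lit 3, nat_lit 6, nat_lit 2, nat_lit 4, nat_lit 6, nat_lit 5, nat_lit 6, nat_lit 0, nat_lit 5, nat_lit 1, nat_lit 3, nat_lit 6, nat_lit 2, nat_lit 4, nat_lit 6, nat_lit 5, nat_lit 6, nat_lit 0, nat_lit 5, nat_lit 1, nat_lit 3, nat_lit 6, nat_lit 2, nat_lit 4, nat_lit 6, nat_lit 5, nat_lit 6, nat_lit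 0, nat_lit 5]
def Wt_279_282 (j : ℕ) : List ℕ := bif Nat.blt j 280 then [nat_lit 3, nat_lit 6, nat_lit 2, nat_lit 4, nat_lit 6, nat_lit 5, nat_lit 6, nat_lit 0, nat_lit 5, nat_lit 1, nat_lit 3, nat_lit 6, nat_lit 2, nat_lit 4, nat_lit 6, nat_lit 5, nat_lit 6, nat_lit 0, nat_lit 5, nat_lit 1, nat_lit 3, nat_lit 6, nat_lit 2, nat_lit 4, nat_lit 6, nat_lit 5, nat_lit 6, nat_lit 0, nat_lit 5, nat_lit 1, nat_lit 3, nat_lit 6, nat_lit 2, nat_lit 4, nat_lit 6, nat_lit 5, nat_lit 6, nat_lit 0, nat_lit 5, nat_lit 1, nat_lit 3, nat_lit 6, nat_lit 2, nat_lit 4, nat_lit 6, nat_lit 5, nat_lit 6, nat_lit 0, nat_lit 5, nat_lit 1] else (Wt_280_282 j)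
def Wt_283_285 (j : ℕ) : List ℕ := bif Nat.blt j 284 then [nat_lit 63, nat_lit 2, nat_lit 6, nat_lit 2, nat_lit 6] else [nat_lit 63, nat_lit 0, nat_lit 5, nat_lit 1, nat_lit 3, nat_lit 6, nat_lit 2, nat_lit 4, nat_lit 6, nat_lit 5, nat_lit 6, nat_lit 0, nat_lit 5, nat_lit 1, nat_lit 3, nat_lit 6, nat_lit 2, nat_lit 4, nat_lit 6, nat_lit 5, nat_lit 6, nat_lit 0, nat_lit 5, nat_lit 1, nat_lit 3, nat_lit 6, nat_lit 2, nat_lit 4, nat_lit 6, nat_lit 5, nat_lit 6, nat_lit 0, nat_lit 5, nat_lit 1, nat_lit 3, nat_lit 6, nat_lit 2, nat_lit 4, nat_lit 6, nat_lit 5, nat_lit 6, nat_lit 0, nat_lit 5, nat_lit 1, nat_lit 3, nat_lit 6, nat_lit 2, nat_lit 4, nat_lit 6, nat_lit 5, nat_lit 6]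
def Wt_282_285 (j : ℕ) : List ℕ := bif Nat.blt j 283 then [nat_lit 63, nat_lit 4, nat_lit 5, nat_lit 0, nat_lit 3, nat_lit 4, nat_lit 5, nat_lit 4, nat_lit 5, nat_lit 0, nat_lit 3, nat_lit 4, nat_lit 5, nat_lit 4, nat_lit 5, nat_lit 0, nat_lit 3, nat_lit 4, nat_lit 5, nat_lit 4, nat_lit 5, nat_lit 0, nat_lit 3, nat_lit 4, nat_lit 5] else (Wt_283_285 j)
def Wt_279_285 (j : ℕ) : List ℕ := bif Nat.blt j 282 then (Wt_279_282 j) else (Wt_282_285 j)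
def Wt_274_285 (j : ℕ) : List ℕ := bif Nat.blt j 279 then (Wt_274_279 j) else (Wt_279_285 j)
def Wt_263_285 (j : ℕ) : List ℕ := bif Nat.blt j 274 then (Wt_263_274 j) else (Wt_274_285 j)
def Wt_285_287 (j : ℕ) : List ℕ := bif Nat.blt j 286 then [nat_lit 1, nat_lit 0, nat_lit 4, nat_lit 5, nat_lit 0, nat_lit 2, nat_lit 1, nat_lit 5, nat_lit 1, nat_lit 0, nat_lit 4, nat_lit 5, nat_lit 0, nat_lit 2, nat_lit 1, nat_lit 5, nat_lit 1, nat_lit 0, nat_lit 4, nat_lit 5, nat_lit 0, nat_lit 2, nat_lit 1, nat_lit 5] else [nat_lit 5, nat_lit 4, nat_lit 3, nat_lit 2, nat_lit 1, nat_lit 0, nat_lit 5, nat_lit 4, nat_lit 3, nat_lit 2, nat_lit 1, nat_lit 0, nat_lit 5, nat_lit 4, nat_lit 3, nat_lit 2, nat_lit 1, nat_lit 0, nat_lit 5, nat_lit 4, nat_lit 3, nat_lit 2, nat_lit 1, nat_lit 0]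
def Wt_288_290 (j : ℕ) : List ℕ := bif Nat.blt j 289 then [nat_lit 63, nat_lit 3, nat_lit 7, nat_lit 3, nat_lit 7] else [nat_lit 63, nat_lit 3, nat_lit 0, nat_lit 3, nat_lit 0]
def Wt_287_290 (j : ℕ) : List ℕ := bif Nat.blt j 288 then [nat_lit 4, nat_lit 5, nat_lit 1, nat_lit 2, nat_lit 1, nat_lit 4, nat_lit 2, nat_lit 3, nat_lit 4, nat_lit 5, nat_lit 1, nat_lit 2, nat_lit 1, nat_lit 4, nat_lit 2, nat_lit 3, nat_lit 4, nat_lit 5, nat_lit 1, nat_lit 2, nat_lit 1, nat_lit 4, nat_lit 2, nat_lit 3] else (Wt_288_290 j)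
def Wt_285_290 (j : ℕ) : List ℕ := bif Nat.blt j 287 then (Wt_285_287 j) else (Wt_287_290 j)
def Wt_291_293 (j : ℕ) : List ℕ := bif Nat.blt j 292 then [nat_lit 0, nat_lit 5, nat_lit 1, nat_lit 0, nat_lit 1, nat_lit 3, nat_lit 0, nat_lit 5, nat_lit 1, nat_lit 0, nat_lit 1, nat_lit 3, nat_lit 0, nat_lit 5, nat_lit 1, nat_lit 0, nat_lit 1, nat_lit 3, nat_lit 0, nat_lit 5, nat_lit 1, nat_lit 0, nat_lit 1, nat_lit 3] else [nat_lit 3, nat_lit 2, nat_lit 4, nat_lit 3, nat_lit 4, nat_lit 3, nat_lit 5, nat_lit 3, nat_lit 2, nat_lit 4, nat_lit 3, nat_lit 4, nat_lit 3, nat_lit 5, nat_lit 3, nat_lit 2, nat_lit 4, nat_lit 3, nat_lit 4, nat_lit 3, nat_lit 5, nat_lit 3, nat_lit 2, nat_lit 4, nat_lit 3, nat_lit 4, nat_lit 3, nat_lit 5]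
def Wt_290_293 (j : ℕ) : List ℕ := bif Nat.blt j 291 then [nat_lit 1, nat_lit 3, nat_lit 2, nat_lit 3, nat_lit 0, nat_lit 1, nat_lit 5, nat_lit 1, nat_lit 3, nat_lit 2, nat_lit 3, nat_lit 0, nat_lit 1, nat_lit 5, nat_lit 1, nat_lit 3, nat_lit 2, nat_lit 3, nat_lit 0, nat_lit 1, nat_lit 5, nat_lit 1, nat_lit 3, nat_lit 2, nat_lit 3, nat_lit 0, nat_lit 1, nat_lit 5] else (Wt_291_293 j)
def Wt_294_296 (j : ℕ) : List ℕ := bif Nat.blt j 295 then [nat_lit 5, nat_lit 3, nat_lit 2, nat_lit 3, nat_lit 0, nat_lit 5, nat_lit 0, nat_lit 4, nat_lit 5, nat_lit 3, nat_lit 2, nat_lit 3, nat_lit 0, nat_lit 5, nat_lit 0, nat_lit 4, nat_lit 5, nat_lit 3, nat_lit 2, nat_lit 3, nat_lit 0, nat_lit 5, nat_lit 0, nat_lit 4] else [nat_lit 5, nat_lit 1, nat_lit 2, nat_lit 1, nat_lit 4, nat_lit 2, nat_lit 3, nat_lit 4, nat_lit 5, nat_lit 1, nat_lit 2, nat_lit 1, nat_lit 4, nat_lit 2, nat_lit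 3, nat_lit 4, nat_lit 5, nat_lit 1, nat_lit 2, nat_lit 1, nat_lit 4, nat_lit 2, nat_lit 3, nat_lit 4]
def Wt_293_296 (j : ℕ) : List ℕ := bif Nat.blt j 294 then [nat_lit 63, nat_lit 2, nat_lit 1, nat_lit 2, nat_lit 1] else (Wt_294_296 j)
def Wt_290_296 (j : ℕ) : List ℕ := bif Nat.blt j 293 then (Wt_290_293 j) else (Wt_293_296 j)
def Wt_285_296 (j : ℕ) : List ℕ := bif Nat.blt j 290 then (Wt_285_290 j) else (Wt_290_296 j)
def Wt_296_298 (j : ℕ) : List ℕ := bif Nat.blt j 297 then [nat_lit 1, nat_lit 2, nat_lit 0, nat_lit 5, nat_lit 4, nat_lit 0, nat_lit 1, nat_lit 5, nat_lit 1, nat_lit 2, nat_lit 0, nat_lit 5, nat_lit 4, nat_lit 0, nat_lit 1, nat_lit 5, nat_lit 1, nat_lit 2, nat_lit 0, nat_lit 5, nat_lit 4, nat_lit 0, nat_lit 1, nat_lit 5] else [nat_lit 4, nat_lit 2, nat_lit 3, nat_lit 5, nat_lit 3, nat_lit 4, nat_lit 3, nat_lit 4, nat_lit 2, nat_lit 3, nat_lit 5, nat_lit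 3, nat_lit 4, nat_lit 3, nat_lit 4, nat_lit 2, nat_lit 3, nat_lit 5, nat_lit 3, nat_lit 4, nat_lit 3, nat_lit 4, nat_lit 2, nat_lit 3, nat_lit 5, nat_lit 3, nat_lit 4, nat_lit 3]
def Wt_299_301 (j : ℕ) : List ℕ := bif Nat.blt j 300 then [nat_lit 1, nat_lit 2, nat_lit 1, nat_lit 4, nat_lit 2, nat_lit 3, nat_lit 4, nat_lit 5, nat_lit 1, nat_lit 2, nat_lit 1, nat_lit 4, nat_lit 2, nat_lit 3, nat_lit 4, nat_lit 5, nat_lit 1, nat_lit 2, nat_lit 1, nat_lit 4, nat_lit 2, nat_lit 3, nat_lit 4, nat_lit 5] else [nat_lit 63, nat_lit 5, nat_lit 3, nat_lit 2, nat_lit 3, nat_lit 0, nat_lit 5, nat_lit 0, nat_lit 4, nat_lit 5, nat_lit 3, nat_lit 2, nat_lit 3, nat_lit 0, nat_lit 5, nat_lit 0, nat_lit 4, nat_lit 5, nat_lit 3, nat_lit 2, nat_lit 3, nat_lit 0, nat_lit 5, nat_lit 0, nat_lit 4]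
def Wt_298_301 (j : ℕ) : List ℕ := bif Nat.blt j 299 then [nat_lit 1, nat_lit 2, nat_lit 3, nat_lit 4, nat_lit 5, nat_lit 0, nat_lit 1, nat_lit 2, nat_lit 3, nat_lit 4, nat_lit 5, nat_lit 0, nat_lit 1, nat_lit 2, nat_lit 3, nat_lit 4, nat_lit 5, nat_lit 0, nat_lit 1, nat_lit 2, nat_lit 3, nat_lit 4, nat_lit 5, nat_lit 0] else (Wt_299_301 j)
def Wt_296_301 (j : ℕ) : List ℕ := bif Nat.blt j 298 then (Wt_296_298 j) else (Wt_298_301 j)
def Wt_302_304 (j : ℕ) : List ℕ := bif Nat.blt j 303 then [nat_lit 0, nat_lit 5, nat_lit 4, nat_lit 5, nat_lit 3, nat_lit 5, nat_lit 0, nat_lit 4, nat_lit 0, nat_lit 5, nat_lit 4, nat_lit 5, nat_lit 3, nat_lit 5, nat_lit 0, nat_lit 4, nat_lit 0, nat_lit 5, nat_lit 4, nat_lit 5, nat_lit 3, nat_lit 5, nat_lit 0, nat_lit 4] else [nat_lit 4, nat_lit 0, nat_lit 1, nat_lit 5, nat_lit 2, nat_lit 0, nat_lit 4, nat_lit 0, nat_lit 1, nat_lit 5,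 nat_lit 2, nat_lit 0, nat_lit 4, nat_lit 0, nat_lit 1, nat_lit 5, nat_lit 2, nat_lit 0, nat_lit 4, nat_lit 0, nat_lit 1, nat_lit 5, nat_lit 2, nat_lit 0]
def Wt_301_304 (j : ℕ) : List ℕ := bif Nat.blt j 302 then [nat_lit 63, nat_lit 5, nat_lit 3, nat_lit 4, nat_lit 3, nat_lit 5, nat_lit 4, nat_lit 3, nat_lit 5, nat_lit 3, nat_lit 4, nat_lit 3, nat_lit 5, nat_lit 4, nat_lit 3, nat_lit 5, nat_lit 3, nat_lit 4, nat_lit 3, nat_lit 5, nat_lit 4, nat_lit 3, nat_lit 5, nat_lit 3, nat_lit 4, nat_lit 3, nat_lit 5, nat_lit 4, nat_lit 3] else (Wt_302_304 j)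
def Wt_305_307 (j : ℕ) : List ℕ := bif Nat.blt j 306 then [nat_lit 63, nat_lit 5, nat_lit 4, nat_lit 3, nat_lit 5, nat_lit 3, nat_lit 4, nat_lit 3, nat_lit 5, nat_lit 4, nat_lit 3, nat_lit 5, nat_lit 3, nat_lit 4, nat_lit 3, nat_lit 5, nat_lit 4, nat_lit 3, nat_lit 5, nat_lit 3, nat_lit 4, nat_lit 3, nat_lit 5, nat_lit 4, nat_lit 3, nat_lit 5, nat_lit 3, nat_lit 4, nat_lit 3] else [nat_lit 63, nat_lit 1, nat_lit 5, nat_lit 1, nat_lit 0, nat_lit 4, nat_lit 5, nat_lit 0, nat_lit 2, nat_lit 1, nat_lit 5, nat_lit 1, nat_lit 0, nat_lit 4, nat_lit 5, nat_lit 0, nat_lit 2, nat_lit 1, nat_lit 5, nat_lit 1, nat_lit 0, nat_lit 4, nat_lit 5, nat_lit 0, nat_lit 2]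
def Wt_304_307 (j : ℕ) : List ℕ := bif Nat.blt j 305 then [nat_lit 5, nat_lit 4, nat_lit 1, nat_lit 3, nat_lit 0, nat_lit 2, nat_lit 3, nat_lit 2, nat_lit 5, nat_lit 4, nat_lit 1, nat_lit 3, nat_lit 0, nat_lit 2, nat_lit 3, nat_lit 2, nat_lit 5, nat_lit 4, nat_lit 1, nat_lit 3, nat_lit 0, nat_lit 2, nat_lit 3, nat_lit 2] else (Wt_305_307 j)
def Wt_301_307 (j : ℕ) : List ℕ := bif Nat.blt j 304 then (Wt_301_304 j) else (Wt_304_307 j)
def Wt_296_307 (j : ℕ) : List ℕ := bif Nat.blt j 301 then (Wt_296_301 j) else (Wt_301_307 j)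
def Wt_285_307 (j : ℕ) : List ℕ := bif Nat.blt j 296 then (Wt_285_296 j) else (Wt_296_307 j)
def Wt_263_307 (j : ℕ) : List ℕ := bif Nat.blt j 285 then (Wt_263_285 j) else (Wt_285_307 j)
def Wt_307_309 (j : ℕ) : List ℕ := bif Nat.blt j 308 then [nat_lit 63, nat_lit 6, nat_lit 2, nat_lit 6, nat_lit 2] else [nat_lit 0, nat_lit 3, nat_lit 2, nat_lit 3, nat_lit 5, nat_lit 4, nat_lit 0, nat_lit 5, nat_lit 0, nat_lit 3, nat_lit 2, nat_lit 3, nat_lit 5, nat_lit 4, nat_lit 0, nat_lit 5, nat_lit 0, nat_lit 3, nat_lit 2, nat_lit 3, nat_lit 5, nat_lit 4, nat_lit 0, nat_lit 5]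
def Wt_310_312 (j : ℕ) : List ℕ := bif Nat.blt j 311 then [nat_lit 2, nat_lit 3, nat_lit 2, nat_lit 0, nat_lit 3, nat_lit 1, nat_lit 4, nat_lit 5, nat_lit 2, nat_lit 3, nat_lit 2, nat_lit 0, nat_lit 3, nat_lit 1, nat_lit 4, nat_lit 5, nat_lit 2, nat_lit 3, nat_lit 2, nat_lit 0, nat_lit 3, nat_lit 1, nat_lit 4, nat_lit 5] else [nat_lit 4, nat_lit 2, nat_lit 7, nat_lit 3, nat_lit 0, nat_lit 3, nat_lit 6, nat_lit 5, nat_lit 7, nat_lit 3, nat_lit 7, nat_lit 4, nat_lit 2, nat_lit 7, nat_lit 3, nat_lit 0, nat_lit 3, nat_lit 6, nat_lit 5, nat_lit 7, nat_lit 3, nat_lit 7, nat_lit 4, nat_lit 2, nat_lit 7, nat_lit 3, nat_lit 0, nat_lit 3, nat_lit 6, nat_lit 5, nat_lit 7, nat_lit 3, nat_lit 7, nat_lit 4, nat_lit 2, nat_lit 7, nat_lit 3, nat_lit 0, nat_lit 3, nat_lit 6, nat_lit 5, nat_lit 7, nat_lit 3, nat_lit 7, nat_lit 4, nat_lit 2, nat_lit 7, nat_lit 3, nat_lit 0, nat_lit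 3, nat_lit 6, nat_lit 5, nat_lit 7, nat_lit 3, nat_lit 7, nat_lit 4, nat_lit 2, nat_lit 7, nat_lit 3, nat_lit 0, nat_lit 3, nat_lit 6, nat_lit 5, nat_lit 7, nat_lit 3, nat_lit 7, nat_lit 4, nat_lit 2, nat_lit 7, nat_lit 3, nat_lit 0, nat_lit 3, nat_lit 6, nat_lit 5, nat_lit 7, nat_lit 3, nat_lit 7, nat_lit 4, nat_lit 2, nat_lit 7, nat_lit 3, nat_lit 0, nat_lit 3, nat_lit 6, nat_lit 5, nat_lit 7, nat_lit 3, nat_lit 7, nat_lit 4, nat_lit 2, nat_lit 7, nat_lit 3, nat_lit 0, nat_lit 3, nat_lit 6, nat_lit 5, nat_lit 7, nat_lit 3, nat_lit 7]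
def Wt_309_312 (j : ℕ) : List ℕ := bif Nat.blt j 310 then [nat_lit 4, nat_lit 0, nat_lit 4, nat_lit 1, nat_lit 3, nat_lit 5, nat_lit 0, nat_lit 5, nat_lit 4, nat_lit 0, nat_lit 4, nat_lit 1, nat_lit 3, nat_lit 5, nat_lit 0, nat_lit 5, nat_lit 4, nat_lit 0, nat_lit 4, nat_lit 1, nat_lit 3, nat_lit 5, nat_lit 0, nat_lit 5] else (Wt_310_312 j)
def Wt_307_312 (j : ℕ) : List ℕ := bif Nat.blt j 309 then (Wt_307_309 j) else (Wt_309_312 j)
def Wt_313_315 (j : ℕ) : List ℕ := bif Nat.blt j 314 then [nat_lit 4, nat_lit 7, nat_lit 3, nat_lit 7, nat_lit 5, nat_lit 6, nat_lit 3, nat_lit 0, nat_lit 3, nat_lit 7, nat_lit 2, nat_lit 4, nat_lit 7, nat_lit 3, nat_lit 7, nat_lit 5, nat_lit 6, nat_lit 3, nat_lit 0, nat_lit 3, nat_lit 7, nat_lit 2, nat_lit 4, nat_lit 7, nat_lit 3, nat_lit 7, nat_lit 5, nat_lit 6, nat_lit 3, nat_lit 0, nat_lit 3, nat_lit 7, nat_lit 2, nat_lit 4, nat_lit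 7, nat_lit 3, nat_lit 7, nat_lit 5, nat_lit 6, nat_lit 3, nat_lit 0, nat_lit 3, nat_lit 7, nat_lit 2, nat_lit 4, nat_lit 7, nat_lit 3, nat_lit 7, nat_lit 5, nat_lit 6, nat_lit 3, nat_lit 0, nat_lit 3, nat_lit 7, nat_lit 2, nat_lit 4, nat_lit 7, nat_lit 3, nat_lit 7, nat_lit 5, nat_lit 6, nat_lit 3, nat_lit 0, nat_lit 3, nat_lit 7, nat_lit 2, nat_lit 4, nat_lit 7, nat_lit 3, nat_lit 7, nat_lit 5, nat_lit 6, nat_lit 3, nat_lit 0, nat_lit 3, nat_lit 7, nat_lit 2, nat_lit 4, nat_lit 7, nat_lit 3, nat_lit 7, nat_lit 5, nat_lit 6, nat_lit 3, nat_lit 0, nat_lit 3, nat_lit 7, nat_lit 2, nat_lit 4, nat_lit 7, nat_lit 3, nat_lit 7, nat_lit 5, nat_lit 6, nat_lit 3, nat_lit 0, nat_lit 3, nat_lit 7, nat_lit 2] else [nat_lit 5, nat_lit 7, nat_lit 3, nat_lit 7, nat_lit 4, nat_lit 2, nat_lit 7, nat_lit 3, nat_lit 0, nat_lit 3, nat_lit 6, nat_lit 5, nat_lit 7, nat_lit 3, nat_lit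 7, nat_lit 4, nat_lit 2, nat_lit 7, nat_lit 3, nat_lit 0, nat_lit 3, nat_lit 6, nat_lit 5, nat_lit 7, nat_lit 3, nat_lit 7, nat_lit 4, nat_lit 2, nat_lit 7, nat_lit 3, nat_lit 0, nat_lit 3, nat_lit 6, nat_lit 5, nat_lit 7, nat_lit 3, nat_lit 7, nat_lit 4, nat_lit 2, nat_lit 7, nat_lit 3, nat_lit 0, nat_lit 3, nat_lit 6, nat_lit 5, nat_lit 7, nat_lit 3, nat_lit 7, nat_lit 4, nat_lit 2, nat_lit 7, nat_lit 3, nat_lit 0, nat_lit 3, nat_lit 6, nat_lit 5, nat_lit 7, nat_lit 3, nat_lit 7, nat_lit 4, nat_lit 2, nat_lit 7, nat_lit 3, nat_lit 0, nat_lit 3, nat_lit 6, nat_lit 5, nat_lit 7, nat_lit 3, nat_lit 7, nat_lit 4, nat_lit 2, nat_lit 7, nat_lit 3, nat_lit 0, nat_lit 3, nat_lit 6, nat_lit 5, nat_lit 7, nat_lit 3, nat_lit 7, nat_lit 4, nat_lit 2, nat_lit 7, nat_lit 3, nat_lit 0, nat_lit 3, nat_lit 6, nat_lit 5, nat_lit 7, nat_lit 3, nat_lit 7, nat_lit 4, nat_lit 2, nat_lit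 7, nat_lit 3, nat_lit 0, nat_lit 3, nat_lit 6]
def Wt_312_315 (j : ℕ) : List ℕ := bif Nat.blt j 313 then [nat_lit 2, nat_lit 3, nat_lit 5, nat_lit 3, nat_lit 4, nat_lit 3, nat_lit 4, nat_lit 2, nat_lit 3, nat_lit 5, nat_lit 3, nat_lit 4, nat_lit 3, nat_lit 4, nat_lit 2, nat_lit 3, nat_lit 5, nat_lit 3, nat_lit 4, nat_lit 3, nat_lit 4, nat_lit 2, nat_lit 3, nat_lit 5, nat_lit 3, nat_lit 4, nat_lit 3, nat_lit 4] else (Wt_313_315 j)
def Wt_316_318 (j : ℕ) : List ℕ := bif Nat.blt j 317 then [nat_lit 3, nat_lit 4, nat_lit 5, nat_lit 4, nat_lit 5, nat_lit 0, nat_lit 3, nat_lit 4, nat_lit 5, nat_lit 4, nat_lit 5, nat_lit 0, nat_lit 3, nat_lit 4, nat_lit 5, nat_lit 4, nat_lit 5, nat_lit 0, nat_lit 3, nat_lit 4, nat_lit 5, nat_lit 4, nat_lit 5, nat_lit 0] else [nat_lit 4, nat_lit 5, nat_lit 1, nat_lit 5, nat_lit 0, nat_lit 6, nat_lit 5, nat_lit 2, nat_lit 7, nat_lit 2, nat_lit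 3, nat_lit 4, nat_lit 5, nat_lit 1, nat_lit 5, nat_lit 0, nat_lit 6, nat_lit 5, nat_lit 2, nat_lit 7, nat_lit 2, nat_lit 3, nat_lit 4, nat_lit 5, nat_lit 1, nat_lit 5, nat_lit 0, nat_lit 6, nat_lit 5, nat_lit 2, nat_lit 7, nat_lit 2, nat_lit 3, nat_lit 4, nat_lit 5, nat_lit 1, nat_lit 5, nat_lit 0, nat_lit 6, nat_lit 5, nat_lit 2, nat_lit 7, nat_lit 2, nat_lit 3, nat_lit 4, nat_lit 5, nat_lit 1, nat_lit 5, nat_lit 0, nat_lit 6, nat_lit 5, nat_lit 2, nat_lit 7, nat_lit 2, nat_lit 3, nat_lit 4, nat_lit 5, nat_lit 1, nat_lit 5, nat_lit 0, nat_lit 6, nat_lit 5, nat_lit 2, nat_lit 7, nat_lit 2, nat_lit 3, nat_lit 4, nat_lit 5, nat_lit 1, nat_lit 5, nat_lit 0, nat_lit 6, nat_lit 5, nat_lit 2, nat_lit 7, nat_lit 2, nat_lit 3, nat_lit 4, nat_lit 5, nat_lit 1, nat_lit 5, nat_lit 0, nat_lit 6, nat_lit 5, nat_lit 2, nat_lit 7, nat_lit 2, nat_lit 3, nat_lit 4, nat_lit 5, nat_lit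 1, nat_lit 5, nat_lit 0, nat_lit 6, nat_lit 5, nat_lit 2, nat_lit 7, nat_lit 2, nat_lit 3]
def Wt_315_318 (j : ℕ) : List ℕ := bif Nat.blt j 316 then [nat_lit 4, nat_lit 3, nat_lit 5, nat_lit 4, nat_lit 3, nat_lit 5, nat_lit 3, nat_lit 4, nat_lit 3, nat_lit 5, nat_lit 4, nat_lit 3, nat_lit 5, nat_lit 3, nat_lit 4, nat_lit 3, nat_lit 5, nat_lit 4, nat_lit 3, nat_lit 5, nat_lit 3, nat_lit 4, nat_lit 3, nat_lit 5, nat_lit 4, nat_lit 3, nat_lit 5, nat_lit 3] else (Wt_316_318 j)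
def Wt_312_318 (j : ℕ) : List ℕ := bif Nat.blt j 315 then (Wt_312_315 j) else (Wt_315_318 j)
def Wt_307_318 (j : ℕ) : List ℕ := bif Nat.blt j 312 then (Wt_307_312 j) else (Wt_312_318 j)
def Wt_318_320 (j : ℕ) : List ℕ := bif Nat.blt j 319 then [nat_lit 6, nat_lit 4, nat_lit 2, nat_lit 6, nat_lit 3, nat_lit 1, nat_lit 5, nat_lit 0, nat_lit 6, nat_lit 5, nat_lit 6, nat_lit 4, nat_lit 2, nat_lit 6, nat_lit 3, nat_lit 1, nat_lit 5, nat_lit 0, nat_lit 6, nat_lit 5, nat_lit 6, nat_lit 4, nat_lit 2, nat_lit 6, nat_lit 3, nat_lit 1, nat_lit 5, nat_lit 0, nat_lit 6, nat_lit 5, nat_lit 6, nat_lit 4, nat_lit 2, nat_lit 6, nat_lit 3, nat_lit 1, nat_lit 5, nat_lit 0, nat_lit 6, nat_lit 5, nat_lit 6, nat_lit 4, nat_lit 2, nat_lit 6, nat_lit 3, nat_lit 1, nat_lit 5, nat_lit 0, nat_lit 6, nat_lit 5] else [nat_lit 63, nat_lit 0, nat_lit 6, nat_lit 0, nat_lit 6]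
def Wt_321_323 (j : ℕ) : List ℕ := bif Nat.blt j 322 then [nat_lit 63, nat_lit 2, nat_lit 3, nat_lit 4, nat_lit 5, nat_lit 0, nat_lit 1, nat_lit 2, nat_lit 3, nat_lit 4, nat_lit 5, nat_lit 0, nat_lit 1, nat_lit 2, nat_lit 3, nat_lit 4, nat_lit 5, nat_lit 0, nat_lit 1, nat_lit 2, nat_lit 3, nat_lit 4, nat_lit 5, nat_lit 0, nat_lit 1] else [nat_lit 63, nat_lit 0, nat_lit 7, nat_lit 0, nat_lit 7]
def Wt_320_323 (j : ℕ) : List ℕ := bif Nat.blt j 321 then [nat_lit 0, nat_lit 2, nat_lit 3, nat_lit 2, nat_lit 5, nat_lit 4, nat_lit 1, nat_lit 3, nat_lit 0, nat_lit 2, nat_lit 3, nat_lit 2, nat_lit 5, nat_lit 4, nat_lit 1, nat_lit 3, nat_lit 0, nat_lit 2, nat_lit 3, nat_lit 2, nat_lit 5, nat_lit 4, nat_lit 1, nat_lit 3] else (Wt_321_323 j)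
def Wt_318_323 (j : ℕ) : List ℕ := bif Nat.blt j 320 then (Wt_318_320 j) else (Wt_320_323 j)
def Wt_324_326 (j : ℕ) : List ℕ := bif Nat.blt j 325 then [nat_lit 0, nat_lit 5, nat_lit 0, nat_lit 4, nat_lit 5, nat_lit 3, nat_lit 2, nat_lit 3, nat_lit 0, nat_lit 5, nat_lit 0, nat_lit 4, nat_lit 5, nat_lit 3, nat_lit 2, nat_lit 3, nat_lit 0, nat_lit 5, nat_lit 0, nat_lit 4, nat_lit 5, nat_lit 3, nat_lit 2, nat_lit 3] else [nat_lit 2, nat_lit 0, nat_lit 5, nat_lit 4, nat_lit 0, nat_lit 1, nat_lit 5, nat_lit 1, nat_lit 2, nat_lit 0, nat_lit 5, nat_lit 4, nat_lit 0, nat_lit 1, nat_lit 5, nat_lit 1, nat_lit 2, nat_lit 0, nat_lit 5, nat_lit 4, nat_lit 0, nat_lit 1, nat_lit 5, nat_lit 1]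
def Wt_323_326 (j : ℕ) : List ℕ := bif Nat.blt j 324 then [nat_lit 1, nat_lit 5, nat_lit 1, nat_lit 0, nat_lit 3, nat_lit 2, nat_lit 3, nat_lit 1, nat_lit 5, nat_lit 1, nat_lit 0, nat_lit 3, nat_lit 2, nat_lit 3, nat_lit 1, nat_lit 5, nat_lit 1, nat_lit 0, nat_lit 3, nat_lit 2, nat_lit 3, nat_lit 1, nat_lit 5, nat_lit 1, nat_lit 0, nat_lit 3, nat_lit 2, nat_lit 3] else (Wt_324_326 j)
def Wt_327_329 (j : ℕ) : List ℕ := bif Nat.blt j 328 then [nat_lit 2, nat_lit 1, nat_lit 0, nat_lit 5, nat_lit 4, nat_lit 3, nat_lit 2, nat_lit 1, nat_lit 0, nat_lit 5, nat_lit 4, nat_lit 3, nat_lit 2, nat_lit 1, nat_lit 0, nat_lit 5, nat_lit 4, nat_lit 3, nat_lit 2, nat_lit 1, nat_lit 0, nat_lit 5, nat_lit 4, nat_lit 3] else [nat_lit 63, nat_lit 2, nat_lit 0, nat_lit 2, nat_lit 0, nat_lit 2, nat_lit 0]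
def Wt_326_329 (j : ℕ) : List ℕ := bif Nat.blt j 327 then [nat_lit 4, nat_lit 3, nat_lit 0, nat_lit 5, nat_lit 4, nat_lit 5, nat_lit 4, nat_lit 3, nat_lit 0, nat_lit 5, nat_lit 4, nat_lit 5, nat_lit 4, nat_lit 3, nat_lit 0, nat_lit 5, nat_lit 4, nat_lit 5, nat_lit 4, nat_lit 3, nat_lit 0, nat_lit 5, nat_lit 4, nat_lit 5] else (Wt_327_329 j)
def Wt_323_329 (j : ℕ) : List ℕ := bif Nat.blt j 326 then (Wt_323_326 j) else (Wt_326_329 j)
def Wt_318_329 (j : ℕ) : List ℕ := bif Nat.blt j 323 then (Wt_318_323 j) else (Wt_323_329 j)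
def Wt_307_329 (j : ℕ) : List ℕ := bif Nat.blt j 318 then (Wt_307_318 j) else (Wt_318_329 j)
def Wt_329_331 (j : ℕ) : List ℕ := bif Nat.blt j 330 then [nat_lit 0, nat_lit 5, nat_lit 4, nat_lit 0, nat_lit 4, nat_lit 1, nat_lit 3, nat_lit 5, nat_lit 0, nat_lit 5, nat_lit 4, nat_lit 0, nat_lit 4, nat_lit 1, nat_lit 3, nat_lit 5, nat_lit 0, nat_lit 5, nat_lit 4, nat_lit 0, nat_lit 4, nat_lit 1, nat_lit 3, nat_lit 5] else [nat_lit 1, nat_lit 5, nat_lit 0, nat_lit 3, nat_lit 1, nat_lit 0, nat_lit 1, nat_lit 5, nat_lit 0, nat_lit 3, nat_lit 1, nat_lit 0, nat_lit 1, nat_lit 5, nat_lit 0, nat_lit 3, nat_lit 1, nat_lit 0, nat_lit 1, nat_lit 5, nat_lit 0, nat_lit 3, nat_lit 1, nat_lit 0]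
def Wt_332_334 (j : ℕ) : List ℕ := bif Nat.blt j 333 then [nat_lit 5, nat_lit 4, nat_lit 3, nat_lit 2, nat_lit 4, nat_lit 1, nat_lit 2, nat_lit 1, nat_lit 5, nat_lit 4, nat_lit 3, nat_lit 2, nat_lit 4, nat_lit 1, nat_lit 2, nat_lit 1, nat_lit 5, nat_lit 4, nat_lit 3, nat_lit 2, nat_lit 4, nat_lit 1, nat_lit 2, nat_lit 1] else [nat_lit 5, nat_lit 3, nat_lit 4, nat_lit 3, nat_lit 5, nat_lit 4, nat_lit 3, nat_lit 5, nat_lit 3, nat_lit 4, nat_lit 3, nat_lit 5, nat_lit 4, nat_lit 3, nat_lit 5, nat_lit 3, nat_lit 4, nat_lit 3, nat_lit 5, nat_lit 4, nat_lit 3, nat_lit 5, nat_lit 3, nat_lit 4, nat_lit 3, nat_lit 5, nat_lit 4, nat_lit 3]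
def Wt_331_334 (j : ℕ) : List ℕ := bif Nat.blt j 332 then [nat_lit 1, nat_lit 5, nat_lit 0, nat_lit 6, nat_lit 5, nat_lit 6, nat_lit 4, nat_lit 2, nat_lit 6, nat_lit 3, nat_lit 1, nat_lit 5, nat_lit 0, nat_lit 6, nat_lit 5, nat_lit 6, nat_lit 4, nat_lit 2, nat_lit 6, nat_lit 3, nat_lit 1, nat_lit 5, nat_lit 0, nat_lit 6, nat_lit 5, nat_lit 6, nat_lit 4, nat_lit 2, nat_lit 6, nat_lit 3, nat_lit 1, nat_lit 5, nat_lit 0, nat_lit 6, nat_lit 5, nat_lit 6, nat_lit 4, nat_lit 2, nat_lit 6, nat_lit 3, nat_lit 1, nat_lit 5, nat_lit 0, nat_lit 6, nat_lit 5, nat_lit 6, nat_lit 4, nat_lit 2, nat_lit 6, nat_lit 3] else (Wt_332_334 j)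
def Wt_329_334 (j : ℕ) : List ℕ := bif Nat.blt j 331 then (Wt_329_331 j) else (Wt_331_334 j)
def Wt_335_337 (j : ℕ) : List ℕ := bif Nat.blt j 336 then [nat_lit 63, nat_lit 7, nat_lit 1, nat_lit 7, nat_lit 1] else [nat_lit 0, nat_lit 4, nat_lit 0, nat_lit 1, nat_lit 5, nat_lit 2, nat_lit 0, nat_lit 4, nat_lit 0, nat_lit 1, nat_lit 5, nat_lit 2, nat_lit 0, nat_lit 4, nat_lit 0, nat_lit 1, nat_lit 5, nat_lit 2, nat_lit 0, nat_lit 4, nat_lit 0, nat_lit 1, nat_lit 5, nat_lit 2]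
def Wt_334_337 (j : ℕ) : List ℕ := bif Nat.blt j 335 then [nat_lit 63, nat_lit 3, nat_lit 1, nat_lit 4, nat_lit 1, nat_lit 4, nat_lit 3, nat_lit 5, nat_lit 2, nat_lit 3, nat_lit 1, nat_lit 4, nat_lit 1, nat_lit 4, nat_lit 3, nat_lit 5, nat_lit 2, nat_lit 3, nat_lit 1, nat_lit 4, nat_lit 1, nat_lit 4, nat_lit 3, nat_lit 5, nat_lit 2] else (Wt_335_337 j)
def Wt_338_340 (j : ℕ) : List ℕ := bif Nat.blt j 339 then [nat_lit 63, nat_lit 0, nat_lit 5, nat_lit 4, nat_lit 3, nat_lit 2, nat_lit 1, nat_lit 0, nat_lit 5, nat_lit 4, nat_lit 3, nat_lit 2, nat_lit 1, nat_lit 0, nat_lit 5, nat_lit 4, nat_lit 3, nat_lit 2, nat_lit 1, nat_lit 0, nat_lit 5, nat_lit 4, nat_lit 3, nat_lit 2, nat_lit 1] else [nat_lit 63, nat_lit 1, nat_lit 5, nat_lit 0, nat_lit 6, nat_lit 5, nat_lit 2, nat_lit 7, nat_lit 2, nat_lit 3, nat_lit 4, nat_lit 5, nat_lit 1, nat_lit 5, nat_lit 0, nat_lit 6, nat_lit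 5, nat_lit 2, nat_lit 7, nat_lit 2, nat_lit 3, nat_lit 4, nat_lit 5, nat_lit 1, nat_lit 5, nat_lit 0, nat_lit 6, nat_lit 5, nat_lit 2, nat_lit 7, nat_lit 2, nat_lit 3, nat_lit 4, nat_lit 5, nat_lit 1, nat_lit 5, nat_lit 0, nat_lit 6, nat_lit 5, nat_lit 2, nat_lit 7, nat_lit 2, nat_lit 3, nat_lit 4, nat_lit 5, nat_lit 1, nat_lit 5, nat_lit 0, nat_lit 6, nat_lit 5, nat_lit 2, nat_lit 7, nat_lit 2, nat_lit 3, nat_lit 4, nat_lit 5, nat_lit 1, nat_lit 5, nat_lit 0, nat_lit 6, nat_lit 5, nat_lit 2, nat_lit 7, nat_lit 2, nat_lit 3, nat_lit 4, nat_lit 5, nat_lit 1, nat_lit 5, nat_lit 0, nat_lit 6, nat_lit 5, nat_lit 2, nat_lit 7, nat_lit 2, nat_lit 3, nat_lit 4, nat_lit 5, nat_lit 1, nat_lit 5, nat_lit 0, nat_lit 6, nat_lit 5, nat_lit 2, nat_lit 7, nat_lit 2, nat_lit 3, nat_lit 4, nat_lit 5, nat_lit 1, nat_lit 5, nat_lit 0, nat_lit 6, nat_lit 5, nat_lit 2, nat_lit 7, nat_lit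 2, nat_lit 3, nat_lit 4, nat_lit 5]
def Wt_337_340 (j : ℕ) : List ℕ := bif Nat.blt j 338 then [nat_lit 3, nat_lit 2, nat_lit 3, nat_lit 0, nat_lit 5, nat_lit 0, nat_lit 4, nat_lit 5, nat_lit 3, nat_lit 2, nat_lit 3, nat_lit 0, nat_lit 5, nat_lit 0, nat_lit 4, nat_lit 5, nat_lit 3, nat_lit 2, nat_lit 3, nat_lit 0, nat_lit 5, nat_lit 0, nat_lit 4, nat_lit 5] else (Wt_338_340 j)
def Wt_334_340 (j : ℕ) : List ℕ := bif Nat.blt j 337 then (Wt_334_337 j) else (Wt_337_340 j)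
def Wt_329_340 (j : ℕ) : List ℕ := bif Nat.blt j 334 then (Wt_329_334 j) else (Wt_334_340 j)
def Wt_340_342 (j : ℕ) : List ℕ := bif Nat.blt j 341 then [nat_lit 63, nat_lit 6, nat_lit 0, nat_lit 6, nat_lit 0] else [nat_lit 1, nat_lit 5, nat_lit 0, nat_lit 6, nat_lit 5, nat_lit 2, nat_lit 7, nat_lit 2, nat_lit 3, nat_lit 4, nat_lit 5, nat_lit 1, nat_lit 5, nat_lit 0, nat_lit 6, nat_lit 5, nat_lit 2, nat_lit 7, nat_lit 2, nat_lit 3, nat_lit 4, nat_lit 5, nat_lit 1, nat_lit 5, nat_lit 0, nat_lit 6, nat_lit 5, nat_lit 2, nat_lit 7, nat_lit 2, nat_lit 3, nat_lit 4, nat_lit 5, nat_lit 1, nat_lit 5, nat_lit 0, nat_lit 6, nat_lit 5, nat_lit 2, nat_lit 7, nat_lit 2, nat_lit 3, nat_lit 4, nat_lit 5, nat_lit 1, nat_lit 5, nat_lit 0, nat_lit 6, nat_lit 5, nat_lit 2, nat_lit 7, nat_lit 2, nat_lit 3, nat_lit 4, nat_lit 5, nat_lit 1, nat_lit 5, nat_lit 0, nat_lit 6, nat_lit 5,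 nat_lit 2, nat_lit 7, nat_lit 2, nat_lit 3, nat_lit 4, nat_lit 5, nat_lit 1, nat_lit 5, nat_lit 0, nat_lit 6, nat_lit 5, nat_lit 2, nat_lit 7, nat_lit 2, nat_lit 3, nat_lit 4, nat_lit 5, nat_lit 1, nat_lit 5, nat_lit 0, nat_lit 6, nat_lit 5, nat_lit 2, nat_lit 7, nat_lit 2, nat_lit 3, nat_lit 4, nat_lit 5, nat_lit 1, nat_lit 5, nat_lit 0, nat_lit 6, nat_lit 5, nat_lit 2, nat_lit 7, nat_lit 2, nat_lit 3, nat_lit 4, nat_lit 5]
def Wt_343_345 (j : ℕ) : List ℕ := bif Nat.blt j 344 then [nat_lit 1, nat_lit 5, nat_lit 4, nat_lit 3, nat_lit 2, nat_lit 7, nat_lit 2, nat_lit 5, nat_lit 6, nat_lit 0, nat_lit 5, nat_lit 1, nat_lit 5, nat_lit 4, nat_lit 3, nat_lit 2, nat_lit 7, nat_lit 2, nat_lit 5, nat_lit 6, nat_lit 0, nat_lit 5, nat_lit 1, nat_lit 5, nat_lit 4, nat_lit 3, nat_lit 2, nat_lit 7, nat_lit 2, nat_lit 5, nat_lit 6, nat_lit 0, nat_lit 5, nat_lit 1, nat_lit 5, nat_lit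 4, nat_lit 3, nat_lit 2, nat_lit 7, nat_lit 2, nat_lit 5, nat_lit 6, nat_lit 0, nat_lit 5, nat_lit 1, nat_lit 5, nat_lit 4, nat_lit 3, nat_lit 2, nat_lit 7, nat_lit 2, nat_lit 5, nat_lit 6, nat_lit 0, nat_lit 5, nat_lit 1, nat_lit 5, nat_lit 4, nat_lit 3, nat_lit 2, nat_lit 7, nat_lit 2, nat_lit 5, nat_lit 6, nat_lit 0, nat_lit 5, nat_lit 1, nat_lit 5, nat_lit 4, nat_lit 3, nat_lit 2, nat_lit 7, nat_lit 2, nat_lit 5, nat_lit 6, nat_lit 0, nat_lit 5, nat_lit 1, nat_lit 5, nat_lit 4, nat_lit 3, nat_lit 2, nat_lit 7, nat_lit 2, nat_lit 5, nat_lit 6, nat_lit 0, nat_lit 5, nat_lit 1, nat_lit 5, nat_lit 4, nat_lit 3, nat_lit 2, nat_lit 7, nat_lit 2, nat_lit 5, nat_lit 6, nat_lit 0, nat_lit 5] else [nat_lit 4, nat_lit 0, nat_lit 5, nat_lit 0, nat_lit 3, nat_lit 2, nat_lit 3, nat_lit 5, nat_lit 4, nat_lit 0, nat_lit 5, nat_lit 0, nat_lit 3, nat_lit 2, nat_lit 3, nat_lit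 5, nat_lit 4, nat_lit 0, nat_lit 5, nat_lit 0, nat_lit 3, nat_lit 2, nat_lit 3, nat_lit 5]
def Wt_342_345 (j : ℕ) : List ℕ := bif Nat.blt j 343 then [nat_lit 3, nat_lit 4, nat_lit 3, nat_lit 4, nat_lit 2, nat_lit 3, nat_lit 5, nat_lit 3, nat_lit 4, nat_lit 3, nat_lit 4, nat_lit 2, nat_lit 3, nat_lit 5, nat_lit 3, nat_lit 4, nat_lit 3, nat_lit 4, nat_lit 2, nat_lit 3, nat_lit 5, nat_lit 3, nat_lit 4, nat_lit 3, nat_lit 4, nat_lit 2, nat_lit 3, nat_lit 5] else (Wt_343_345 j)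
def Wt_340_345 (j : ℕ) : List ℕ := bif Nat.blt j 342 then (Wt_340_342 j) else (Wt_342_345 j)
def Wt_346_348 (j : ℕ) : List ℕ := bif Nat.blt j 347 then [nat_lit 5, nat_lit 4, nat_lit 5, nat_lit 3, nat_lit 5, nat_lit 0, nat_lit 4, nat_lit 0, nat_lit 5, nat_lit 4, nat_lit 5, nat_lit 3, nat_lit 5, nat_lit 0, nat_lit 4, nat_lit 0, nat_lit 5, nat_lit 4, nat_lit 5, nat_lit 3, nat_lit 5, nat_lit 0, nat_lit 4, nat_lit 0] else [nat_lit 3, nat_lit 0, nat_lit 5, nat_lit 1, nat_lit 0, nat_lit 1, nat_lit 3, nat_lit 0, nat_lit 5, nat_lit 1, nat_lit 0, nat_lit 1, nat_lit 3, nat_lit 0, nat_lit 5, nat_lit 1, nat_lit 0, nat_lit 1, nat_lit 3, nat_lit 0, nat_lit 5, nat_lit 1, nat_lit 0, nat_lit 1]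
def Wt_345_348 (j : ℕ) : List ℕ := bif Nat.blt j 346 then [nat_lit 5, nat_lit 4, nat_lit 5, nat_lit 0, nat_lit 3, nat_lit 4, nat_lit 5, nat_lit 4, nat_lit 5, nat_lit 0, nat_lit 3, nat_lit 4, nat_lit 5, nat_lit 4, nat_lit 5, nat_lit 0, nat_lit 3, nat_lit 4, nat_lit 5, nat_lit 4, nat_lit 5, nat_lit 0, nat_lit 3, nat_lit 4] else (Wt_346_348 j)
def Wt_349_351 (j : ℕ) : List ℕ := bif Nat.blt j 350 then [nat_lit 5, nat_lit 1, nat_lit 3, nat_lit 6, nat_lit 2, nat_lit 4, nat_lit 6, nat_lit 5, nat_lit 6, nat_lit 0, nat_lit 5, nat_lit 1, nat_lit 3, nat_lit 6, nat_lit 2, nat_lit 4, nat_lit 6, nat_lit 5, nat_lit 6, nat_lit 0, nat_lit 5, nat_lit 1, nat_lit 3, nat_lit 6, nat_lit 2, nat_lit 4, nat_lit 6, nat_lit 5, nat_lit 6, nat_lit 0, nat_lit 5, nat_lit 1, nat_lit 3, nat_lit 6, nat_lit 2, nat_lit 4, nat_lit 6, nat_lit 5, nat_lit 6, nat_lit 0, nat_lit 5, nat_lit 1, nat_lit 3,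 nat_lit 6, nat_lit 2, nat_lit 4, nat_lit 6, nat_lit 5, nat_lit 6, nat_lit 0] else [nat_lit 2, nat_lit 5, nat_lit 4, nat_lit 1, nat_lit 3, nat_lit 0, nat_lit 2, nat_lit 3, nat_lit 2, nat_lit 5, nat_lit 4, nat_lit 1, nat_lit 3, nat_lit 0, nat_lit 2, nat_lit 3, nat_lit 2, nat_lit 5, nat_lit 4, nat_lit 1, nat_lit 3, nat_lit 0, nat_lit 2, nat_lit 3]
def Wt_348_351 (j : ℕ) : List ℕ := bif Nat.blt j 349 then [nat_lit 1, nat_lit 4, nat_lit 2, nat_lit 3, nat_lit 4, nat_lit 5, nat_lit 1, nat_lit 2, nat_lit 1, nat_lit 4, nat_lit 2, nat_lit 3, nat_lit 4, nat_lit 5, nat_lit 1, nat_lit 2, nat_lit 1, nat_lit 4, nat_lit 2, nat_lit 3, nat_lit 4, nat_lit 5, nat_lit 1, nat_lit 2] else (Wt_349_351 j)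
def Wt_345_351 (j : ℕ) : List ℕ := bif Nat.blt j 348 then (Wt_345_348 j) else (Wt_348_351 j)
def Wt_340_351 (j : ℕ) : List ℕ := bif Nat.blt j 345 then (Wt_340_345 j) else (Wt_345_351 j)
def Wt_329_351 (j : ℕ) : List ℕ := bif Nat.blt j 340 then (Wt_329_340 j) else (Wt_340_351 j)
def Wt_307_351 (j : ℕ) : List ℕ := bif Nat.blt j 329 then (Wt_307_329 j) else (Wt_329_351 j)
def Wt_263_351 (j : ℕ) : List ℕ := bif Nat.blt j 307 then (Wt_263_307 j) else (Wt_307_351 j)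
def Wt_175_351 (j : ℕ) : List ℕ := bif Nat.blt j 263 then (Wt_175_263 j) else (Wt_263_351 j)
def Wt_0_351 (j : ℕ) : List ℕ := bif Nat.blt j 175 then (Wt_0_175 j) else (Wt_175_351 j)
def Wt (j : ℕ) : List ℕ := (Wt_0_351 j)
def W (j : ℕ) : List ℕ := bif Nat.blt j 351 then Wt j else []
theorem W_ge (j : ℕ) (h : 351 ≤ j) : W j = [] := by
  unfold W
  rw [blt_false_of_le h]
  rfl
def Hl : List ℕ := [nat_lit 0, nat_lit 1, nat_lit 2, nat_lit 3, nat_lit 4, nat_lit 5, nat_lit 6]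
def isH (y : ℕ) : Bool := List.elem y Hl
def Rb : List (List ℕ) := [[nat_lit 0, nat_lit 0],
  [nat_lit 1, nat_lit 1],
  [nat_lit 1, nat_lit 0, nat_lit 1, nat_lit 0, nat_lit 1, nat_lit 0],
  [nat_lit 2, nat_lit 2],
  [nat_lit 2, nat_lit 0, nat_lit 2, nat_lit 0, nat_lit 2, nat_lit 0],
  [nat_lit 2, nat_lit 1, nat_lit 2, nat_lit 1],
  [nat_lit 3, nat_lit 3],
  [nat_lit 3, nat_lit 0, nat_lit 3, nat_lit 0],
  [nat_lit 3, nat_lit 1, nat_lit 3, nat_lit 1, nat_lit 3, nat_lit 1],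
  [nat_lit 3, nat_lit 2, nat_lit 3, nat_lit 2],
  [nat_lit 4, nat_lit 4],
  [nat_lit 4, nat_lit 0, nat_lit 4, nat_lit 0],
  [nat_lit 4, nat_lit 1, nat_lit 4, nat_lit 1],
  [nat_lit 4, nat_lit 2, nat_lit 4, nat_lit 2],
  [nat_lit 4, nat_lit 3, nat_lit 4, nat_lit 3, nat_lit 4, nat_lit 3],
  [nat_lit 5, nat_lit 5],
  [nat_lit 4, nat_lit 3, nat_lit 4, nat_lit 3, nat_lit 5, nat_lit 3, nat_lit 2, nat_lit 4, nat_lit 3, nat_lit 4, nat_lit 3, nat_lit 5, nat_lit 3, nat_lit 2, nat_lit 4, nat_lit 3, nat_lit 4, nat_lit 3, nat_lit 5, nat_lit 3, nat_lit 2, nat_lit 4, nat_lit 3, nat_lit 4, nat_lit 3, nat_lit 5, nat_lit 3, nat_lit 2],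
  [nat_lit 1, nat_lit 3, nat_lit 2, nat_lit 3, nat_lit 0, nat_lit 1, nat_lit 5, nat_lit 1, nat_lit 3, nat_lit 2, nat_lit 3, nat_lit 0, nat_lit 1, nat_lit 5, nat_lit 1, nat_lit 3, nat_lit 2, nat_lit 3, nat_lit 0, nat_lit 1, nat_lit 5, nat_lit 1, nat_lit 3, nat_lit 2, nat_lit 3, nat_lit 0, nat_lit 1, nat_lit 5],
  [nat_lit 4, nat_lit 3, nat_lit 5, nat_lit 4, nat_lit 3, nat_lit 5, nat_lit 3, nat_lit 4, nat_lit 3, nat_lit 5, nat_lit 4, nat_lit 3, nat_lit 5, nat_lit 3, nat_lit 4, nat_lit 3, nat_lit 5, nat_lit 4, nat_lit 3, nat_lit 5, nat_lit 3, nat_lit 4, nat_lit 3, nat_lit 5, nat_lit 4, nat_lit 3, nat_lit 5, nat_lit 3],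
  [nat_lit 2, nat_lit 1, nat_lit 0, nat_lit 5, nat_lit 4, nat_lit 3, nat_lit 2, nat_lit 1, nat_lit 0, nat_lit 5, nat_lit 4, nat_lit 3, nat_lit 2, nat_lit 1, nat_lit 0, nat_lit 5, nat_lit 4, nat_lit 3, nat_lit 2, nat_lit 1, nat_lit 0, nat_lit 5, nat_lit 4, nat_lit 3],
  [nat_lit 1, nat_lit 4, nat_lit 2, nat_lit 3, nat_lit 4, nat_lit 5, nat_lit 1, nat_lit 2, nat_lit 1, nat_lit 4, nat_lit 2, nat_lit 3, nat_lit 4, nat_lit 5, nat_lit 1, nat_lit 2, nat_lit 1, nat_lit 4, nat_lit 2, nat_lit 3, nat_lit 4, nat_lit 5, nat_lit 1, nat_lit 2],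
  [nat_lit 0, nat_lit 4, nat_lit 5, nat_lit 3, nat_lit 2, nat_lit 3, nat_lit 0, nat_lit 5, nat_lit 0, nat_lit 4, nat_lit 5, nat_lit 3, nat_lit 2, nat_lit 3, nat_lit 0, nat_lit 5, nat_lit 0, nat_lit 4, nat_lit 5, nat_lit 3, nat_lit 2, nat_lit 3, nat_lit 0, nat_lit 5],
  [nat_lit 3, nat_lit 1, nat_lit 4, nat_lit 1, nat_lit 4, nat_lit 3, nat_lit 5, nat_lit 2, nat_lit 3, nat_lit 1, nat_lit 4, nat_lit 1, nat_lit 4, nat_lit 3, nat_lit 5, nat_lit 2, nat_lit 3, nat_lit 1, nat_lit 4, nat_lit 1, nat_lit 4, nat_lit 3, nat_lit 5, nat_lit 2],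
  [nat_lit 0, nat_lit 1, nat_lit 5, nat_lit 2, nat_lit 0, nat_lit 4, nat_lit 0, nat_lit 1, nat_lit 5, nat_lit 2, nat_lit 0, nat_lit 4, nat_lit 0, nat_lit 1, nat_lit 5, nat_lit 2, nat_lit 0, nat_lit 4, nat_lit 0, nat_lit 1, nat_lit 5, nat_lit 2, nat_lit 0, nat_lit 4],
  [nat_lit 0, nat_lit 3, nat_lit 4, nat_lit 5, nat_lit 4, nat_lit 5, nat_lit 0, nat_lit 3, nat_lit 4, nat_lit 5, nat_lit 4, nat_lit 5, nat_lit 0, nat_lit 3, nat_lit 4, nat_lit 5, nat_lit 4, nat_lit 5, nat_lit 0, nat_lit 3, nat_lit 4, nat_lit 5, nat_lit 4, nat_lit 5],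
  [nat_lit 0, nat_lit 4, nat_lit 5, nat_lit 0, nat_lit 2, nat_lit 1, nat_lit 5, nat_lit 1, nat_lit 0, nat_lit 4, nat_lit 5, nat_lit 0, nat_lit 2, nat_lit 1, nat_lit 5, nat_lit 1, nat_lit 0, nat_lit 4, nat_lit 5, nat_lit 0, nat_lit 2, nat_lit 1, nat_lit 5, nat_lit 1],
  [nat_lit 5, nat_lit 0, nat_lit 3, nat_lit 1, nat_lit 0, nat_lit 1, nat_lit 5, nat_lit 0, nat_lit 3, nat_lit 1, nat_lit 0, nat_lit 1, nat_lit 5, nat_lit 0, nat_lit 3, nat_lit 1, nat_lit 0, nat_lit 1, nat_lit 5, nat_lit 0, nat_lit 3, nat_lit 1, nat_lit 0, nat_lit 1],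
  [nat_lit 3, nat_lit 5, nat_lit 0, nat_lit 4, nat_lit 0, nat_lit 5, nat_lit 4, nat_lit 5, nat_lit 3, nat_lit 5, nat_lit 0, nat_lit 4, nat_lit 0, nat_lit 5, nat_lit 4, nat_lit 5, nat_lit 3, nat_lit 5, nat_lit 0, nat_lit 4, nat_lit 0, nat_lit 5, nat_lit 4, nat_lit 5],
  [nat_lit 4, nat_lit 0, nat_lit 4, nat_lit 5, nat_lit 0, nat_lit 5, nat_lit 3, nat_lit 1, nat_lit 4, nat_lit 0, nat_lit 4, nat_lit 5, nat_lit 0, nat_lit 5, nat_lit 3, nat_lit 1, nat_lit 4, nat_lit 0, nat_lit 4, nat_lit 5, nat_lit 0, nat_lit 5, nat_lit 3, nat_lit 1],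
  [nat_lit 1, nat_lit 4, nat_lit 5, nat_lit 2, nat_lit 3, nat_lit 2, nat_lit 0, nat_lit 3, nat_lit 1, nat_lit 4, nat_lit 5, nat_lit 2, nat_lit 3, nat_lit 2, nat_lit 0, nat_lit 3, nat_lit 1, nat_lit 4, nat_lit 5, nat_lit 2, nat_lit 3, nat_lit 2, nat_lit 0, nat_lit 3],
  [nat_lit 6, nat_lit 6],
  [nat_lit 6, nat_lit 0, nat_lit 6, nat_lit 0],
  [nat_lit 6, nat_lit 2, nat_lit 6, nat_lit 2],
  [nat_lit 5, nat_lit 3, nat_lit 5, nat_lit 3],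
  [nat_lit 6, nat_lit 3, nat_lit 6, nat_lit 3, nat_lit 6, nat_lit 3],
  [nat_lit 6, nat_lit 4, nat_lit 6, nat_lit 4],
  [nat_lit 6, nat_lit 5, nat_lit 6, nat_lit 5],
  [nat_lit 3, nat_lit 6, nat_lit 2, nat_lit 4, nat_lit 6, nat_lit 5, nat_lit 6, nat_lit 0, nat_lit 5, nat_lit 1, nat_lit 3, nat_lit 6, nat_lit 2, nat_lit 4, nat_lit 6, nat_lit 5, nat_lit 6, nat_lit 0, nat_lit 5, nat_lit 1, nat_lit 3, nat_lit 6, nat_lit 2, nat_lit 4, nat_lit 6, nat_lit 5, nat_lit 6, nat_lit 0, nat_lit 5, nat_lit 1, nat_lit 3, nat_lit 6, nat_lit 2, nat_lit 4, nat_lit 6, nat_lit 5, nat_lit 6, nat_lit 0, nat_lit 5, nat_lit 1, nat_lit 3, nat_lit 6, nat_lit 2, nat_lit 4, nat_lit 6, nat_lit 5, nat_lit 6, nat_lit 0, nat_lit 5, nat_lit 1],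
  [nat_lit 7, nat_lit 7],
  [nat_lit 7, nat_lit 0, nat_lit 7, nat_lit 0],
  [nat_lit 7, nat_lit 1, nat_lit 7, nat_lit 1],
  [nat_lit 7, nat_lit 2, nat_lit 7, nat_lit 2],
  [nat_lit 7, nat_lit 3, nat_lit 7, nat_lit 3],
  [nat_lit 7, nat_lit 4, nat_lit 7, nat_lit 4],
  [nat_lit 7, nat_lit 5, nat_lit 7, nat_lit 5, nat_lit 7, nat_lit 5],
  [nat_lit 7, nat_lit 6, nat_lit 7, nat_lit 6],
  [nat_lit 5, nat_lit 0, nat_lit 6, nat_lit 5, nat_lit 2, nat_lit 7, nat_lit 2, nat_lit 3, nat_lit 4, nat_lit 5, nat_lit 1, nat_lit 5, nat_lit 0, nat_lit 6, nat_lit 5, nat_lit 2, nat_lit 7, nat_lit 2, nat_lit 3, nat_lit 4, nat_lit 5, nat_lit 1, nat_lit 5, nat_lit 0, nat_lit 6, nat_lit 5, nat_lit 2, nat_lit 7, nat_lit 2, nat_lit 3, nat_lit 4, nat_lit 5, nat_lit 1, nat_lit 5, nat_lit 0, nat_lit 6, nat_lit 5, nat_lit 2, nat_lit 7, nat_lit 2, nat_lit 3, nat_lit 4, nat_lit 5, nat_lit 1, nat_lit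 5, nat_lit 0, nat_lit 6, nat_lit 5, nat_lit 2, nat_lit 7, nat_lit 2, nat_lit 3, nat_lit 4, nat_lit 5, nat_lit 1, nat_lit 5, nat_lit 0, nat_lit 6, nat_lit 5, nat_lit 2, nat_lit 7, nat_lit 2, nat_lit 3, nat_lit 4, nat_lit 5, nat_lit 1, nat_lit 5, nat_lit 0, nat_lit 6, nat_lit 5, nat_lit 2, nat_lit 7, nat_lit 2, nat_lit 3, nat_lit 4, nat_lit 5, nat_lit 1, nat_lit 5, nat_lit 0, nat_lit 6, nat_lit 5, nat_lit 2, nat_lit 7, nat_lit 2, nat_lit 3, nat_lit 4, nat_lit 5, nat_lit 1, nat_lit 5, nat_lit 0, nat_lit 6, nat_lit 5, nat_lit 2, nat_lit 7, nat_lit 2, nat_lit 3, nat_lit 4, nat_lit 5, nat_lit 1],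
  [nat_lit 3, nat_lit 7, nat_lit 2, nat_lit 4, nat_lit 7, nat_lit 3, nat_lit 7, nat_lit 5, nat_lit 6, nat_lit 3, nat_lit 0, nat_lit 3, nat_lit 7, nat_lit 2, nat_lit 4, nat_lit 7, nat_lit 3, nat_lit 7, nat_lit 5, nat_lit 6, nat_lit 3, nat_lit 0, nat_lit 3, nat_lit 7, nat_lit 2, nat_lit 4, nat_lit 7, nat_lit 3, nat_lit 7, nat_lit 5, nat_lit 6, nat_lit 3, nat_lit 0, nat_lit 3, nat_lit 7, nat_lit 2, nat_lit 4, nat_lit 7, nat_lit 3, nat_lit 7, nat_lit 5, nat_lit 6, nat_lit 3, nat_lit 0, nat_lit 3, nat_lit 7, nat_lit 2, nat_lit 4, nat_lit 7, nat_lit 3, nat_lit 7, nat_lit 5, nat_lit 6, nat_lit 3, nat_lit 0, nat_lit 3, nat_lit 7, nat_lit 2, nat_lit 4, nat_lit 7, nat_lit 3, nat_lit 7, nat_lit 5, nat_lit 6, nat_lit 3, nat_lit 0, nat_lit 3, nat_lit 7, nat_lit 2, nat_lit 4, nat_lit 7, nat_lit 3, nat_lit 7, nat_lit 5, nat_lit 6, nat_lit 3, nat_lit 0, nat_lit 3, nat_lit 7, nat_lit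 2, nat_lit 4, nat_lit 7, nat_lit 3, nat_lit 7, nat_lit 5, nat_lit 6, nat_lit 3, nat_lit 0, nat_lit 3, nat_lit 7, nat_lit 2, nat_lit 4, nat_lit 7, nat_lit 3, nat_lit 7, nat_lit 5, nat_lit 6, nat_lit 3, nat_lit 0],
  []]
def spT_1_3 (j : ℕ) : ℕ := bif Nat.blt j 2 then nat_lit 0x26000000420000e0320000202b0000602e0000201c000080280000402c000000280000a0300000802b0000402a000020360000202000000038000040270000a02200002034000020220000a02f0000a03900002035000040340000002a000020080000202a0000402e00006021000000310000403000006020000020040000003b000020320000403500000030000000220000001a0000a026000060240000e02c000060320000802f00002044000060360000403a0000a0340000a0380000a0200000001c0000000800000014000000000000403a0000e02a00000014000000120000002c0000201a0000a0320000202a000060340000204200000022 else nat_lit 0x404a0000a0350000203b0000602400004037000000350000e038000040230000a0220000402d0000804b0000203a000020120000202b0000603a0000604b000020300000a0300000c0250000203b0000e03300000004000060270000e0360000802c00004020000060220000402e000000180000c02000004023000080380000c032000000300000a028000040320000e03b00006035000040390000000c0000c02800008028000020380000a03800002034000000350000602b0000802e00000031000080200000802700006029000000160000003b00008029000000100000003400006032000000060000202c000020260000003a0000c03b00006027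
def spT_0_3 (j : ℕ) : ℕ := bif Nat.blt j 1 then nat_lit 0x3c0000000600000000000000000000000c0000000200000014000000060000000200000002000000140000006000000002000000000000001e0000004c0000001e000000060000803a00002010000020160000005800000040000000040000003e0000200a0000205a0000004800000046000000440000000c0000c036000020180000001e0000e02c000000120000000e0000200800002004000020540000201c0000001a0000203e00000018000000100000000a000000160000205600002046000020520000204000002012000020500000204e0000200e0000205800002048000000420000005a000000560000005400000052000000500000004e else (spT_1_3 j)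
def spT_4_6 (j : ℕ) : ℕ := bif Nat.blt j 5 then nat_lit 0x203e0000c04b0001205c00004030000020240000805f0000805e000020210001005f0000803a0000c0390000402b000000400000a032000040240000c03b0000002e0000a0360000a0240000402a0000e0280000a02700000021000060330000c0280000602a0000000a0000c0200000a035000020220000000e000020540000a02800008026000000320000e04a00002040000080300000004a0000c03a0000204a000000270000602d00004025000080240000e03a0000a025000040330000602f0000202d0001204b0000c0220000002a0000605f0001005e0000602c0000a02600008038000080360000004c0000003c000000360000c05c00004028 else nat_lit 0xa03b0001204a00002028000080350000c036000080300000e02b0000205d000080210000005c0000003e0001405c000040260000802a0000a02e000000500000002c0000c024000060290000204b0000003400008039000000080000202600008031000080330000e02a000000230000204e0000a0270000403b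
def spT_3_6 (j : ℕ) : ℕ := bif Nat.blt j 4 then nat_lit 0x605c000000060000403500006030000000000000001e0000c02c0000204b000020230000a03a00002048000060260000e0320000c02200000048000000020000000c0000404b0000604a0000802f0000802e0000203a000000230000001e000080340000001c000040320000602e0000000c0000001e0000003c000000020000000000008031000080390000c03900002058000020390000e0380000004c0000004c0000200e00006034000040380000603500008021000080340000602f000000200000403b0000e0330000c0330000403300002042000020180000e03b00002035000000320000002b0000003c000000140000003c0000203100006023 else (spT_4_6 j)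
def spT_0_6 (j : ℕ) : ℕ := bif Nat.blt j 3 then (spT_0_3 j) else (spT_3_6 j)
def spT (j : ℕ) : ℕ := (spT_0_6 j)
def sp (j : ℕ) : ℕ := Nat.land (Nat.shiftRight (spT (Nat.shiftRight j 6)) (Nat.mul (Nat.land j 63) 32)) 4294967295
theorem Eo_lt (r : ℕ) : Eo r < 18014398509481984 := land54_lt _
def cT_0_2 (j : ℕ) : ℕ := bif Nat.blt j 1 then nat_lit 0x1c50001c40001c300018a00018700018400018300018100018000017f00017100016d00016c00016a00016900016800016700016500016400016300016200015f00015e00015d00014000012f00012e00012a00012800012700012600011100010e0001070001030001000000ff0000fe0000f90000f60000f40000f30000ef0000ee0000ed0000ec0000eb0000e90000e80000e70000ce0000cd0000ca0000c90000c80000c30000c10000c00000be0000bb0000ba0000b90000ac0000a60000a40000a300009e00009b00009700009400009000008f00008e00008b00008a00008900008800008600008500008400007a00007900007800007500007400007300006e00006a00006800006600006500006400006200006100006000005f00005e00005c00005b00005a00005600005500005400005300004800004600004500004000003f00003e00003c00003b00003800003700002700002500002400002300002100002000001100000f00000e000006000005000002000001000000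 else nat_lit 0x6010006000005fb0005fa0005f90005f70005f60005f10005e30005e20005e10005da0005d90005d70005d60005d50005d30005d20005cf0005ce0005cc0005cb0005ca0005c90005c80005c70005c50005c40005c30005c20005000004fe0004f50004f40004d20004cf0004ce0004c50004c40004c30004be0004bd0004bc00041700040a0004050004040004000003ff0003cb0003bb0003b90003b80003b60003b30003b20003ac0003a80003a50003a40003a20003a10003a000039d00039b00039900039800033300032d00032800032500032200031f00031e00031d00031c00031b0002f90002ed0002ec0002eb0002e60002e50002e40002e20002e10002e00002de0002d90002d80002d60002d50002d40002d30002d20002d00002cf0002ce0002cd0002cc0002cb0002ca00029600026000025d00025000024f00024b00024a0002480002470001fc0001fb0001f60001f40001f20001f10001db0001d50001d40001d30001d10001d00001cd0001cb0001ca0001c90001c8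
def cT_3_5 (j : ℕ) : ℕ := bif Nat.blt j 4 then nat_lit 0x119a00119800119300118f00118e00118600117a00117600117100117000116c00116b0011660011650011020010fb0010f70010f60010f00010ed0010ec0010ea0010e90010cc0010c90010c70010c60010c30010c00010be0010bd0010bc0010b90010b80010b10010b00010ae0010ad0010ac0010ab0010a80010a700109900109800109600107500107100106e00106d00106a00106900105800105600105300105200104c00104b00104a00104900104600104500104000103e00103300103200103100102e00102a00102900102800102500102400102200102100102000101f00101d00101c001018001017000f14000ef0000eec000ee3000ee1000ee0000e7f000e70000e6d000e54000e53000e51000e4b000e49000e48000e47000e44000e43000e31000e2f000e2e000e2d000e2c000e29000e28000d2b000d08000d07000d06000d03000ca9000ca0000c9f000c9e000c98000c95000c91000c90000c8e000c86000c82000c7a000c72000c71000c6c000c6b000c67000c66 else nat_lit 0x152f00152e00152d00152b00152a001528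00152700152600152400152300151800151600151200150e00150b00150a0015090015080015070015060015050015030015010015000014ff0014fe0014fd0014fb0014fa0014f90014f80014f70014f60014f50014f40014f30014f20014f10014f00014ef0014ee0014ed0014ec0014ea0014e90014e80014e70014e60014e50014e40014e30014e20014e10014e00014df0014de0014dd0014db0014da0014d900144300143f00142e00142b00142a0013d40013cb0013c70013b10013ae0013ad0013a60013a40013a100139e00139d00139c00139800139500139400139100138200138100137f00137e00137d00137b0013780013760013750013740013710013700012bf0012be0012b70012b400126100126000125d00125c00125800125700125500125200124f00124e00124c00124500124400123f00123700123600122f00122b00122a00122500122400122300121e00121a0012160012130012090012070011f70011ab0011a8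
def cT_2_5 (j : ℕ) : ℕ := bif Nat.blt j 3 then nat_lit 0xc63000c61000c59000c55000c4c000c4b000bee000bd3000bd1000bc0000bbc000bbb000bb4000bac000bab000ba6000ba2000b9d000b9c000b4e000b18000b0e000b0b000b0a000b07000b06000ae6000ae4000ae3000ae2000ae1000ade000add000ad6000ad5000ad4000ad3000ad2000ad1000acb000aca000ac9000aa2000aa0000a9d000a9c000a8e000a8d000a8c000a87000a86000a85000a84000a80000a77000a76000a75000a72000a71000a6f000a6e000a6d000a6c000a6b000a68000a67000a65000a6400096a00095600095300094f0009080009060008fe0008ea0008e90008e80008e50008e40008d90008d60008d50008d40008d30007cd0007be0007bd0007bc00075b00075500075400075200075000074c00074b00074400074300073d0007380007360007350007320007300007290007280007220007210006af00069f00069600069100068b00068a00068600068300068100068000067e00067d00063b00061b000619000616000615000607000603000602 else (cT_3_5 j)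
def cT_0_5 (j : ℕ) : ℕ := bif Nat.blt j 2 then (cT_0_2 j) else (cT_2_5 j)
def cT_6_8 (j : ℕ) : ℕ := bif Nat.blt j 7 then nat_lit 0x16b50016b40016b30016b20016b10016b00016af0016ad0016ac0016ab0016aa0016a90016a60016a50016a40016a100169e00169d00169900169800169700169200169100168e00168d00168c00168900168800168700168600168500168400168300168200168100168000167f00167e00167d00167c00167b00167a00167900167800167700167300167200167000166f00166e00166d00166b00166a00166900166800166700166600166500166400166300166200165f00165e00165d00165b00165a00165800165700165600165500165400165300165200165100165000164f00164d00164b00164a00164900164700164600164200164100163e00163d00163a00163900163800163700163600163500163400163300163200163100163000162f00162a00162900162800162700162600162500162400162300162200162000161f00161e00161d00161c00161b00161a00161500161400161300161200161100161000160f00160e00160c00160a001609001608001607001606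 else nat_lit 0x174e00174d00174c00174b00174a00174900174800174700174600174500174400174300174200174100174000173f00173e00173d00173c00173b00173a00173900173800173700173600173500173300173200173100173000172f00172e00172d00172c00172b00172a00172900172800172700172600172500172400172300172200172100172000171f00171e00171d00171c00171a00171900171800171700171600171500171400171300171200171100171000170f0017090017080017050017040017030017020017010017000016ff0016fe0016fd0016fc0016fb0016fa0016f90016f80016f70016f60016f50016f40016f10016f00016ef0016ee0016e50016e40016e10016e00016df0016de0016dc0016db0016da0016d70016d60016d50016d40016d30016d20016d10016d00016cf0016ce0016cd0016cc0016cb0016ca0016c90016c80016c70016c60016c50016c40016c30016c20016c10016c00016bf0016be0016bc0016bb0016ba0016b90016b80016b70016b6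
def cT_5_8 (j : ℕ) : ℕ := bif Nat.blt j 6 then nat_lit 0x16050016040016030016020015fe0015f80015f50015f30015f10015f00015ef0015ee0015ed0015eb0015ea0015e90015e80015e70015e60015e50015e30015df0015de0015db0015da0015d90015d80015d60015d50015d40015d30015d20015d10015d00015cf0015ce0015cd0015cc0015cb0015c90015c60015c50015c40015c20015c00015bf0015be0015bd0015bc0015b80015b70015b50015b10015af0015ae0015ad0015ac0015a70015a60015a50015a40015a20015a10015a000159f00159c00159a00159800159700159600159500159300159200158f00158e00158d00158c00158b00158700158600158400158200158100158000157d00157c00157b00157a00157700157500156f00156b00156900156800156600156500156400156300156000155b00155800155700155600155500155400155300155200155100154e00154b00154a00154700154600154300154200154100154000153f00153e00153d00153c00153b00153a001539001538001537001532001531 else (cT_6_8 j)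
def cT_9_11 (j : ℕ) : ℕ := bif Nat.blt j 10 then nat_lit 0x186200186100186000185f00185e00185d00185c00185b00185900185800185700185600185500185400185300185200185100185000184f00184d00184c00184b00184a00184900184800184700184600184500184400184300184200184100184000183f00183e00183d00183c00183b00183900183800183700183600183500183400183300183200183100183000182f00182e00182d00182c00182b00182900182800182700182600182500182400182300182200182100182000181f00181e00181d00181b00181a00181900181800181700181600181500181400181300181200181100181000180f00180e00180d00180c00180b00180a0018090018080018070018060018050018040018030018020018010018000017ff0017fe0017fd0017fc0017fb0017fa0017f90017f80017f70017f60017f50017f40017f30017f20017f10017f00017ef0017ee0017ed0017ec0017eb0017ea0017e90017e80017e70017e60017e50017e40017e30017e20017e10017e00017df0017de else nat_lit 0x18e50018e40018e30018e20018e10018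e00018df0018de0018dd0018dc0018db0018da0018d90018d80018d70018d60018d50018d40018d30018d20018d10018d00018cf0018ce0018cd0018cc0018cb0018ca0018c90018c80018c70018c60018c50018c40018c30018c20018c10018c00018bf0018be0018bd0018bc0018bb0018ba0018b90018b80018b70018b60018b50018b40018b30018b20018b10018b00018af0018ae0018ad0018ac0018ab0018aa0018a90018a80018a70018a60018a50018a40018a30018a20018a10018a000189f00189e00189d00189c00189b00189a00189900189800189600189500189400189300189200189100189000188f00188e00188d00188c00188b00188a00188900188800188700188600188500188400188300188200188100188000187f00187e00187d00187c00187a00187900187800187700187600187500187400187300187200187100187000186f00186e00186d00186c00186a001869001868001867001866001865001864001863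
def cT_8_11 (j : ℕ) : ℕ := bif Nat.blt j 9 then nat_lit 0x17dd0017dc0017db0017da0017d90017d80017d70017d60017d50017d40017d30017d20017d10017d00017cf0017ce0017cd0017cc0017cb0017c80017c70017c60017c50017c40017c30017c20017c00017bf0017be0017bd0017bb0017ba0017b90017b80017b70017b60017b50017b40017b30017b20017b10017b00017af0017ae0017ad0017ac0017ab0017aa0017a90017a80017a40017a30017a20017a100179d00179c00179b00179a00179900179600179500179400179300179200179100179000178e00178d00178c00178b00178a00178900178800178700178600178500178400178300178200178000177f00177e00177d00177c00177b00177a00177900177800177700177600177500177400177300177200177100177000176f00176e00176d00176c00176b00176a00176900176800176700176600176500176400176300176200176100176000175f00175e00175d00175c00175b00175a00175900175800175700175600175500175400175200175100175000174f else (cT_9_11 j)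
def cT_5_11 (j : ℕ) : ℕ := bif Nat.blt j 8 then (cT_5_8 j) else (cT_8_11 j)
def cT_0_11 (j : ℕ) : ℕ := bif Nat.blt j 5 then (cT_0_5 j) else (cT_5_11 j)
def cT (j : ℕ) : ℕ := (cT_0_11 j)
noncomputable def cChunk (h : ℕ) : ℕ := Nat.rec (motive := fun _ => ℕ) (cT 0) (fun n _ => cT (Nat.succ n)) h
noncomputable def cF (i : ℕ) : ℕ := Nat.land (Nat.shiftRight (cChunk (Nat.shiftRight i 7)) (Nat.mul (Nat.land i 127) 24)) 16777215
theorem cF_lt (i : ℕ) : cF i < 16777216 := land24_lt _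
theorem cF_zero : cF 0 = 0 := by decide +kernel
def nDef : ℕ := 6373
def nEv : ℕ := 19812
def nW : ℕ := 351
def N : ℕ := 1408
def ys : List ℕ := [nat_lit 0, nat_lit 1, nat_lit 2, nat_lit 3, nat_lit 4, nat_lit 5, nat_lit 6, nat_lit 7]
end Cfsg.Agent.Lib.ToddCox.U62T
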